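import Groth.Agent.GrLC.K859.KosVan

/-!
# Diagonal vanishing for ℤ-graded modules over rings generated in degree one
-/

set_option autoImplicit false
set_option linter.unusedSectionVars false
universe u

open GrLC DirectSum K759.Gr K859.Van K859.KosVan

namespace K859.Diag

theorem exists_fin_generators {R : Type u} [CommRing R] [IsNoetherianRing R] (s : Set R) :
    ∃ (n : ℕ) (x : Fin n → R), (∀ j, x j ∈ s) ∧ Ideal.span (Set.range x) = Ideal.span s := by
  have h : (Ideal.span s).FG := IsNoetherian.noetherian _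
  obtain ⟨t, ht, hts⟩ := Submodule.fg_span_iff_fg_span_finset_subset s |>.1 h
  refine ⟨t.card, fun j => (t.equivFin.symm j).1, fun j => ht (t.equivFin.symm j).2, ?_⟩
  have : Set.range (fun j => ((t.equivFin.symm j).1 : R)) = (t : Set R) := by
    ext y
    constructor
    · rintro ⟨j, rfl⟩; exact (t.equivFin.symm j).2
    · intro hy; exact ⟨t.equivFin ⟨y, hy⟩, by simp⟩
  rw [this]
  exact hts.symm

variable {R : Type u} [CommRing R] [IsNoetherianRing R] {σ : Type u} [SetLike σ R]
  [AddSubgroupClass σ R] {𝒜 : ℤ → σ} [GradedRing 𝒜]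
variable {M : Type u} [AddCommGroup M] [Module R M] {τ : Type u} [SetLike τ M] [AddSubgroupClass τ M]
  (ℳ : ℤ → τ) [DirectSum.Decomposition ℳ] [SetLike.GradedSMul 𝒜 ℳ]
  {a : HomogeneousIdeal 𝒜} (ha : a.toIdeal = Ideal.span (𝒜 1 : Set R))

include ha

/-- vanishing on a diagonal in cohomological degrees `≥ l ≥ 1` implies vanishing above it -/
theorem diag {r : ℤ} {l : ℕ} (hl : 1 ≤ l) (h : ∀ i : ℕ, l ≤ i → Van a ℳ i (r + 1 - i)) (i : ℕ)
    (hi : l ≤ i) (s : ℤ) (hs : r < s) : Van a ℳ i (s - i) := by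
  obtain ⟨n, x, hx, hspan⟩ := exists_fin_generators (𝒜 1 : Set R)
  have ha' : a.toIdeal = Ideal.span (Set.range x) := by rw [hspan, ha]
  obtain ⟨t, ht⟩ : ∃ t : ℕ, s = r + 1 + t := ⟨(s - r - 1).toNat, by omega⟩
  subst ht
  clear hs
  induction t generalizing i with
  | zero => simpa using h i hi
  | succ t ih =>
    refine van_succ ℳ x hx ha' (by omega) fun p => ?_
    have := ih (i + p) (by omega)
    convert this using 1
    rw [nsmul_eq_mul]
    push_cast
    ring

/-- vanishing on a diagonal implies generation: if `H^p_a(M)_{e-p} = 0` for all `p` then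
`M_e ⊆ a M` -/
theorem mem_smul_top {e : ℤ} (h : ∀ p : ℕ, Van a ℳ p (e - p)) {m : M} (hm : m ∈ ℳ e) :
    m ∈ a.toIdeal • (⊤ : Submodule R M) := by
  obtain ⟨n, x, hx, hspan⟩ := exists_fin_generators (𝒜 1 : Set R)
  have ha' : a.toIdeal = Ideal.span (Set.range x) := by rw [hspan, ha]
  refine le_smul_top ℳ x hx ha' (fun p => ?_) hm
  convert h p using 1
  simp

end K859.Diag
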