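import Mathlib.RingTheory.Length
import Mathlib.RingTheory.Artinian.Module
import Mathlib.Algebra.BigOperators.Intervals
import Mathlib.Tactic

/-!
# Alternating sums of lengths in long exact sequences
-/

set_option autoImplicit false
universe u v

namespace K859.AltLen

variable {S : Type v} [CommRing S]

/-- the length of a module as a rational number -/
noncomputable def len (S : Type v) [CommRing S] (X : Type u) [AddCommGroup X] [Module S X] : ℚ :=
  ((Module.length S X).toNat : ℚ)

section

variable {X : Type u} [AddCommGroup X] [Module S X] {Y : Type u} [AddCommGroup Y] [Module S Y]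
  {Z : Type u} [AddCommGroup Z] [Module S Z]

theorem len_congr (e : X ≃ₗ[S] Y) : len S X = len S Y := by
  rw [len, len, e.length_eq]

theorem len_zero [Subsingleton X] : len S X = 0 := by
  rw [len, Module.length_eq_zero]; rfl

theorem len_exact (f : X →ₗ[S] Y) (g : Y →ₗ[S] Z) (hf : Function.Injective f)
    (hg : Function.Surjective g) (h : Function.Exact f g) (hY : IsFiniteLength S Y) :
    len S Y = len S X + len S Z := by
  have h1 := Module.length_eq_add_of_exact f g hf hg h
  have hX : Module.length S X ≠ ⊤ := by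
    rw [Module.length_ne_top_iff]
    exact hY.of_injective hf
  have hZ : Module.length S Z ≠ ⊤ := by
    rw [Module.length_ne_top_iff]
    exact hY.of_surjective hg
  rw [len, len, len, h1, ENat.toNat_add hX hZ]
  push_cast
  rfl

theorem len_ker_range (f : X →ₗ[S] Y) (hX : IsFiniteLength S X) :
    len S X = len S (LinearMap.ker f) + len S (LinearMap.range f) :=
  len_exact (LinearMap.ker f).subtype f.rangeRestrict (Submodule.subtype_injective _)
    f.surjective_rangeRestrict (by
      intro x
      constructor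
      · intro h
        exact ⟨⟨x, congrArg Subtype.val h⟩, rfl⟩
      · rintro ⟨y, rfl⟩
        exact Subtype.ext y.2) hX

end

/-- the alternating sum of the lengths in a long exact sequence -/
theorem alt_sum (A B C : ℕ → Type u) [∀ i, AddCommGroup (A i)] [∀ i, Module S (A i)]
    [∀ i, AddCommGroup (B i)] [∀ i, Module S (B i)] [∀ i, AddCommGroup (C i)]
    [∀ i, Module S (C i)] (f : ∀ i, A i →ₗ[S] B i) (g : ∀ i, B i →ₗ[S] C i)
    (δ : ∀ i, C i →ₗ[S] A (i + 1)) (hA : ∀ i, IsFiniteLength S (A i))
    (hB : ∀ i, IsFiniteLength S (B i)) (hC : ∀ i, IsFiniteLength S (C i))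
    (h0 : Function.Injective (f 0)) (h1 : ∀ i, Function.Exact (f i) (g i))
    (h2 : ∀ i, Function.Exact (g i) (δ i)) (h3 : ∀ i, Function.Exact (δ i) (f (i + 1))) (n : ℕ) :
    ∑ i ∈ Finset.range (n + 1), (-1 : ℚ) ^ i * len S (B i) =
      ∑ i ∈ Finset.range (n + 1), (-1 : ℚ) ^ i * len S (A i) +
        ∑ i ∈ Finset.range (n + 1), (-1 : ℚ) ^ i * len S (C i)
        - (-1 : ℚ) ^ n * len S (LinearMap.range (δ n)) := by
  have hb : ∀ i, len S (B i) = len S (LinearMap.range (f i)) + len S (LinearMap.range (g i)) := by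
    intro i
    rw [len_ker_range (g i) (hB i), (LinearMap.exact_iff.1 (h1 i))]
  have hc : ∀ i, len S (C i) = len S (LinearMap.range (g i)) + len S (LinearMap.range (δ i)) := by
    intro i
    rw [len_ker_range (δ i) (hC i), (LinearMap.exact_iff.1 (h2 i))]
  have ha : ∀ i, len S (A (i + 1)) = len S (LinearMap.range (δ i))
      + len S (LinearMap.range (f (i + 1))) := by
    intro i
    rw [len_ker_range (f (i + 1)) (hA (i + 1)), (LinearMap.exact_iff.1 (h3 i))]
  have ha0 : len S (A 0) = len S (LinearMap.range (f 0)) := by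
    rw [len_ker_range (f 0) (hA 0), LinearMap.ker_eq_bot.2 h0, len_zero, zero_add]
  induction n with
  | zero =>
    simp only [zero_add, Finset.sum_range_one, pow_zero, one_mul]
    rw [hb, hc, ha0]
    ring
  | succ n ih =>
    rw [Finset.sum_range_succ, ih, Finset.sum_range_succ _ (n + 1), Finset.sum_range_succ _ (n + 1),
      hb, hc, ha]
    ring

/-- the alternating sum of the lengths in a bounded long exact sequence -/
theorem alt_sum' (A B C : ℕ → Type u) [∀ i, AddCommGroup (A i)] [∀ i, Module S (A i)]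
    [∀ i, AddCommGroup (B i)] [∀ i, Module S (B i)] [∀ i, AddCommGroup (C i)]
    [∀ i, Module S (C i)] (f : ∀ i, A i →ₗ[S] B i) (g : ∀ i, B i →ₗ[S] C i)
    (δ : ∀ i, C i →ₗ[S] A (i + 1)) (hA : ∀ i, IsFiniteLength S (A i))
    (hB : ∀ i, IsFiniteLength S (B i)) (hC : ∀ i, IsFiniteLength S (C i))
    (h0 : Function.Injective (f 0)) (h1 : ∀ i, Function.Exact (f i) (g i))
    (h2 : ∀ i, Function.Exact (g i) (δ i)) (h3 : ∀ i, Function.Exact (δ i) (f (i + 1))) (n : ℕ)
    (hn : Subsingleton (A (n + 1))) :
    ∑ i ∈ Finset.range (n + 1), (-1 : ℚ) ^ i * len S (B i) =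
      ∑ i ∈ Finset.range (n + 1), (-1 : ℚ) ^ i * len S (A i) +
        ∑ i ∈ Finset.range (n + 1), (-1 : ℚ) ^ i * len S (C i) := by
  rw [alt_sum A B C f g δ hA hB hC h0 h1 h2 h3 n, len_zero (X := LinearMap.range (δ n)),
    mul_zero, sub_zero]

end K859.AltLen
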