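import Groth.Agent.GrLC.K859.Diag

/-!
# Regularity in the sense of graded local cohomology; passage to `M / x M`
-/

set_option autoImplicit false
set_option linter.unusedSectionVars false
universe u

open GrLC DirectSum K759.Gr K759.GrObj K859.Van K859.KosVan

namespace K859.DReg

variable {R : Type u} [CommRing R] {σ : Type u} [SetLike σ R]
  [AddSubgroupClass σ R] {𝒜 : ℤ → σ} [GradedRing 𝒜]
variable {M : Type u} [AddCommGroup M] [Module R M] {τ : Type u} [SetLike τ M] [AddSubgroupClass τ M]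
  (ℳ : ℤ → τ) [DirectSum.Decomposition ℳ] [SetLike.GradedSMul 𝒜 ℳ]
variable {N : Type u} [AddCommGroup N] [Module R N] {τN : Type u} [SetLike τN N] [AddSubgroupClass τN N]
  (𝒩 : ℤ → τN) [DirectSum.Decomposition 𝒩] [SetLike.GradedSMul 𝒜 𝒩]

/-- `M` is `d`-regular (all levels): `H^i_a(M)_e = 0` whenever `i + e > d`. -/
def DReg (a : HomogeneousIdeal 𝒜) (ℳ : ℤ → τ) [DirectSum.Decomposition ℳ]
    [SetLike.GradedSMul 𝒜 ℳ] (d : ℤ) : Prop :=
  ∀ (i : ℕ) (e : ℤ), d < i + e → Van a ℳ i e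

variable {ℳ 𝒩} {a : HomogeneousIdeal 𝒜}

/-- torsion argument: if multiplication by `x ∈ a` of degree one is injective on the pieces of
degree `≥ e` of `H^i_a(M)`, these vanish. -/
theorem van_of_injective {x : R} (hx1 : x ∈ 𝒜 1) (hxa : x ∈ a.toIdeal) {i : ℕ} {e : ℤ}
    (E : StarInjRes 𝒜 ℳ)
    (hinj : ∀ e' : ℤ, e ≤ e' → ∀ ξ ∈ E.Hcomp a i e', x • ξ = 0 → ξ = 0) : Van a ℳ i e := by
  rw [van_iff a E, eq_bot_iff]
  intro ξ hξ
  rw [Submodule.mem_bot]
  have htor : ∃ t : ℕ, x ^ t • ξ = 0 := by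
    have h1 : ξ ∈ gam a.toIdeal (E.H a i) := by
      rw [K963.Iface.gam_H]; trivial
    obtain ⟨t, ht⟩ := h1
    exact ⟨t, ht _ (Ideal.pow_mem_pow hxa t)⟩
  obtain ⟨t, ht⟩ := htor
  have key : ∀ (t : ℕ) (e' : ℤ), e ≤ e' → ∀ ξ ∈ E.Hcomp a i e', x ^ t • ξ = 0 → ξ = 0 := by
    intro t
    induction t with
    | zero => intro e' _ ξ _ ht; simpa using ht
    | succ t ih =>
      intro e' he' ξ hξ ht
      -- `x • ξ` lies in degree `e' + 1`
      have hmem : x • ξ ∈ E.Hcomp a i (e' + 1) := by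
        have hd : IsGrHomDeg ℳ ℳ (x • (LinearMap.id : M →ₗ[R] M)) 1 := by
          intro g m hm
          have := smul_mem 𝒜 ℳ hx1 hm
          rwa [add_comm 1 g] at this
        have := K963.Iface.Hmap_mem E E a i hd hξ
        rwa [K963.Iface.Hmap_smul_id E a i hx1] at this
      refine hinj e' he' ξ hξ (ih (e' + 1) (by omega) (x • ξ) hmem ?_)
      rw [smul_smul, ← pow_succ]; exact ht
  exact key t e le_rfl ξ hξ ht

section hyper

variable {x : R} (hx1 : x ∈ 𝒜 1) (hxa : x ∈ a.toIdeal)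
  (hker : ∀ m : M, x • m = 0 → m ∈ gam a.toIdeal M)
  (π : M →ₗ[R] N) (hπ : Function.Surjective π) (hπg : IsGrHom ℳ 𝒩 π)
  (hkπ : ∀ m : M, π m = 0 ↔ ∃ m', x • m' = m)

/-- multiplication by `x` -/
abbrev mulx (M : Type u) [AddCommGroup M] [Module R M] (x : R) : M →ₗ[R] M := x • LinearMap.id

include hx1 in
theorem mulx_deg : IsGrHomDeg ℳ ℳ (mulx M x) 1 := by
  intro g m hm
  have := smul_mem 𝒜 ℳ hx1 hm
  rwa [add_comm 1 g] at this

include hx1 hker in
theorem torsion_kernel : gam a.toIdeal (LinearMap.ker (mulx M x)) = ⊤ := by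
  rw [eq_top_iff]
  rintro ⟨m, hm⟩ -
  obtain ⟨t, ht⟩ := hker m hm
  exact ⟨t, fun r hr => Subtype.ext (ht r hr)⟩

include hx1 in
theorem ker_hom : (LinearMap.ker (mulx M x)).IsHomogeneous ℳ :=
  isHomogeneous_kerDeg (mulx_deg hx1)

include hx1 in
theorem range_hom : (LinearMap.range (mulx M x)).IsHomogeneous ℳ :=
  isHomogeneous_rangeDeg (mulx_deg hx1)

/-- the corestriction of multiplication by `x` to its range has degree one -/
theorem rangeRestrict_deg (hx1 : x ∈ 𝒜 1) :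
    IsGrHomDeg ℳ (subGr ℳ (LinearMap.range (mulx M x))) (mulx M x).rangeRestrict 1 :=
  fun g m hm => mulx_deg hx1 g m hm

theorem exact_ker : Function.Exact (LinearMap.ker (mulx M x)).subtype
    (mulx M x).rangeRestrict := by
  rw [LinearMap.exact_iff, Submodule.range_subtype, LinearMap.ker_rangeRestrict]

include hkπ in
theorem exact_range : Function.Exact (LinearMap.range (mulx M x)).subtype π := by
  intro m
  rw [hkπ m]
  constructor
  · rintro ⟨m', rfl⟩; exact ⟨⟨x • m', ⟨m', rfl⟩⟩, rfl⟩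
  · rintro ⟨⟨_, m', rfl⟩, rfl⟩; exact ⟨m', rfl⟩

variable [IsNoetherianRing R]

include hx1 hker in
/-- local cohomology of `x M` -/
theorem van_range {i : ℕ} {e : ℤ} (h : Van a ℳ i e) :
    letI := subDec ℳ _ (range_hom (ℳ := ℳ) hx1)
    Van a (subGr ℳ (LinearMap.range (mulx M x))) i (e + 1) := by
  let dk := subDec ℳ _ (ker_hom (ℳ := ℳ) hx1)
  let dr := subDec ℳ _ (range_hom (ℳ := ℳ) hx1)
  have := van_right (a := a) (ℳ := subGr ℳ (LinearMap.ker (mulx M x))) (𝒩 := ℳ)
    (𝒬 := subGr ℳ (LinearMap.range (mulx M x)))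
    (isGrHomDeg_zero_iff.2 (isGrHom_subtype ℳ _)) (rangeRestrict_deg hx1)
    (Submodule.injective_subtype _) exact_ker (LinearMap.surjective_rangeRestrict _)
    (i := i) (e := e) (by rw [add_zero]; exact h)
    (van_of_torsion (torsion_kernel hx1 hker) (Nat.succ_pos i) e)
  rwa [add_zero] at this

include hx1 hker hπ hπg hkπ in
/-- vanishing for the quotient `M / x M` -/
theorem van_quotient {i : ℕ} {e : ℤ} (h1 : Van a ℳ i e) (h2 : Van a ℳ (i + 1) (e - 1)) :
    Van a 𝒩 i e := by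
  let dr := subDec ℳ _ (range_hom (ℳ := ℳ) hx1)
  refine van_right₀ (ℳ := subGr ℳ (LinearMap.range (mulx M x))) (𝒩 := ℳ)
    (isGrHom_subtype ℳ _) hπg (Submodule.injective_subtype _) (exact_range π hkπ) hπ h1 ?_
  have := van_range hx1 hker h2
  rwa [sub_add_cancel] at this

include hx1 hker hπ hπg hkπ in
/-- the quotient of a `d`-regular module is `d`-regular -/
theorem dreg_quotient {d : ℤ} (h : DReg a ℳ d) : DReg a 𝒩 d := fun i e hie =>
  van_quotient hx1 hker π hπ hπg hkπ (h i e hie) (h (i + 1) (e - 1) (by push_cast; omega))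

include hx1 hxa hker hπ hπg hkπ in
/-- conversely, if the quotient is `d`-regular and `H^0` vanishes above `d`, the module is
`d`-regular -/
theorem dreg_of_quotient {d : ℤ} (h0 : ∀ e : ℤ, d < e → Van a ℳ 0 e) (h : DReg a 𝒩 d) :
    DReg a ℳ d := by
  let dk := subDec ℳ _ (ker_hom (ℳ := ℳ) hx1)
  let dr := subDec ℳ _ (range_hom (ℳ := ℳ) hx1)
  intro i e hie
  cases i with
  | zero => exact h0 e (by simpa using hie)
  | succ i =>
    obtain ⟨E⟩ := K963.Iface.nonempty_res 𝒜 ℳ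
    obtain ⟨G⟩ := K963.Iface.nonempty_res 𝒜 𝒩
    obtain ⟨Ek⟩ := K963.Iface.nonempty_res 𝒜 (subGr ℳ (LinearMap.ker (mulx M x)))
    obtain ⟨Er⟩ := K963.Iface.nonempty_res 𝒜 (subGr ℳ (LinearMap.range (mulx M x)))
    refine van_of_injective hx1 hxa E ?_
    intro e' he' ξ hξ hxξ
    -- factor multiplication by x
    have hs : IsGrHomDeg (subGr ℳ (LinearMap.range (mulx M x))) ℳ
      (LinearMap.range (mulx M x)).subtype 0 := isGrHomDeg_zero_iff.2 (isGrHom_subtype ℳ _)
    have hcomp : (LinearMap.range (mulx M x)).subtype ∘ₗ (mulx M x).rangeRestrict = mulx M x := by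
      apply LinearMap.ext; intro m; rfl
    have hd : IsGrHomDeg ℳ ℳ ((LinearMap.range (mulx M x)).subtype ∘ₗ (mulx M x).rangeRestrict)
        (1 + 0) := by
      rw [hcomp, add_zero]; exact mulx_deg hx1
    have h3 := K963.Iface.Hmap_comp E Er E a (i + 1) (rangeRestrict_deg (ℳ := ℳ) hx1) hs hd ξ
    have hd' : IsGrHomDeg ℳ ℳ (mulx M x) (1 + 0) := by rw [add_zero]; exact mulx_deg hx1
    rw [Hmap_congr E E a (i + 1) hcomp hd hd',
      Hmap_congr_deg E E a (i + 1) (add_zero (1 : ℤ)) hd' (mulx_deg hx1),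
      K963.Iface.Hmap_smul_id E a (i + 1) hx1, hxξ] at h3
    -- the second map is injective in this degree
    obtain ⟨δ, hδ, _, _, _, h31⟩ := K963.Iface.les Er E G a hs (isGrHomDeg_zero_iff.2 hπg)
      (Submodule.injective_subtype _) (exact_range π hkπ) hπ
    set η := K963.Iface.Hmap E Er a (i + 1) (mulx M x).rangeRestrict (rangeRestrict_deg hx1) ξ
      with hη
    have hηmem : η ∈ Er.Hcomp a (i + 1) (e' + 1) := K963.Iface.Hmap_mem E Er a (i + 1) _ hξ
    have hη0 : η = 0 := by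
      obtain ⟨z, hz⟩ := (h31 i η).1 h3.symm
      let _ := K963.Iface.Hdec G a i
      let _ := K963.Iface.Hdec Er a (i + 1)
      have hδ' : IsGrHomDeg (G.Hgr a i) (Er.Hgr a (i + 1)) (δ i) 0 := by
        intro h y hy
        have := hδ i h y hy
        rw [sub_zero, sub_zero] at this
        rw [add_zero]
        exact this
      obtain ⟨z', hz', hzz⟩ := exists_lift_deg hδ' (i := e' + 1) (y := η)
        (by rw [add_zero]; exact hηmem) ⟨z, hz⟩
      have hz'' : z' ∈ G.Hcomp a i (e' + 1) := hz'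
      rw [h i (e' + 1) (by push_cast at hie; omega) G, Submodule.mem_bot] at hz''
      rw [← hzz, hz'', map_zero]
    -- the first map is injective
    obtain ⟨δ', _, _, h12, _, _⟩ := K963.Iface.les Ek E Er a
      (isGrHomDeg_zero_iff.2 (isGrHom_subtype ℳ (LinearMap.ker (mulx M x))))
      (rangeRestrict_deg (ℳ := ℳ) hx1)
      (Submodule.injective_subtype _) exact_ker (LinearMap.surjective_rangeRestrict _)
    obtain ⟨w, hw⟩ := (h12 (i + 1) ξ).1 (by rw [← hη]; exact hη0)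
    have hsub := K963.Iface.H_subsingleton_of_torsion Ek a (i + 1) (torsion_kernel hx1 hker)
      (Nat.succ_pos i)
    rw [← hw, Subsingleton.elim w 0, map_zero]

include hx1 hxa hker hπ hπg hkπ in
theorem dreg_iff {d : ℤ} :
    DReg a ℳ d ↔ (∀ e : ℤ, d < e → Van a ℳ 0 e) ∧ DReg a 𝒩 d :=
  ⟨fun h => ⟨fun e he => h 0 e (by simpa using he),
    dreg_quotient hx1 hker π hπ hπg hkπ h⟩,
    fun h => dreg_of_quotient hx1 hxa hker π hπ hπg hkπ h.1 h.2⟩

end hyper

/-- if `a` contains an `M`-regular element then `H^0_a(M) = 0` -/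
theorem van_zero_of_regular {x : R} (hxa : x ∈ a.toIdeal) (hreg : ∀ m : M, x • m = 0 → m = 0)
    (e : ℤ) : Van a ℳ 0 e := by
  rw [van_zero_iff]
  rintro m - ⟨t, ht⟩
  have h1 := ht _ (Ideal.pow_mem_pow hxa t)
  clear ht
  induction t with
  | zero => simpa using h1
  | succ t ih =>
    apply ih
    rw [pow_succ', mul_smul] at h1
    exact hreg _ h1

/-- torsion modules -/
theorem dreg_iff_of_torsion [IsNoetherianRing R] (hM : gam a.toIdeal M = ⊤) {d : ℤ} :
    DReg a ℳ d ↔ ∀ e : ℤ, d < e → ∀ m ∈ ℳ e, m = 0 := by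
  constructor
  · intro h e he m hm
    exact van_zero_iff.1 (h 0 e (by simpa using he)) m hm (by rw [hM]; trivial)
  · intro h i e hie
    cases i with
    | zero =>
      rw [van_zero_iff]
      intro m hm _
      exact h e (by simpa using hie) m hm
    | succ i => exact van_of_torsion hM (Nat.succ_pos i) e

theorem dreg_of_equiv {d : ℤ} (f : M ≃ₗ[R] N) (hf : IsGrHom ℳ 𝒩 f.toLinearMap)
    (h : DReg a 𝒩 d) : DReg a ℳ d := fun i e hie =>
  Van.of_equiv f (isGrHomDeg_zero_iff.2 hf) (by rw [add_zero]; exact h i e hie)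

end K859.DReg
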