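import Groth.Agent.GrLC.K759.Pos
import Groth.Agent.GrLC.K759.Avoid
import Groth.Agent.GrLC.K759.AcycInj
import Groth.Agent.GrLC.K963.LES
import Groth.Agent.Localalg.LCIface

/-!
# Serre finiteness and vanishing for local cohomology at the irrelevant ideal

Same as `K759.Serre`, with homogeneous pieces of any type.
-/

set_option autoImplicit false
set_option linter.unusedSectionVars false
universe u

open DirectSum GrLC K759.Gr K759.GrObj K963.Iface
open Groth.Agent.Localalg

namespace K859.SerreG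

section General

variable {ι : Type} [AddCommGroup ι] [DecidableEq ι]
variable {R : Type u} [CommRing R] [IsNoetherianRing R] {σ : Type u} [SetLike σ R]
  [AddSubgroupClass σ R] {𝒜 : ι → σ} [GradedRing 𝒜]
variable {M : Type u} [AddCommGroup M] [Module R M] {τ : Type u} [SetLike τ M]
  [AddSubgroupClass τ M] {ℳ : ι → τ} [DirectSum.Decomposition ℳ] [SetLike.GradedSMul 𝒜 ℳ]

/-- Torsion modules are acyclic. -/
theorem subsingleton_of_torsion (E : StarInjRes 𝒜 ℳ) (a : HomogeneousIdeal 𝒜)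
    (h : gam a.toIdeal M = ⊤) (i : ℕ) (hi : 0 < i) : Subsingleton (E.H a i) := by
  obtain ⟨e⟩ := K759.AcycInj.nonempty_equiv E a i
  have := LCIface.subsingleton_H_of_torsion a.toIdeal M (fun m => by
    have h1 : m ∈ gam a.toIdeal M := by rw [h]; trivial
    exact h1) i hi
  exact e.toEquiv.subsingleton

theorem torsion (E : StarInjRes 𝒜 ℳ) (a : HomogeneousIdeal 𝒜) (i : ℕ) (x : E.H a i) :
    ∃ n : ℕ, ∀ r ∈ a.toIdeal ^ n, r • x = 0 := by
  obtain ⟨e⟩ := K759.AcycInj.nonempty_equiv E a i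
  obtain ⟨n, hn⟩ := LCIface.isPowerTorsion_H a.toIdeal M i (e x)
  exact ⟨n, fun r hr => e.injective (by rw [map_smul, hn r hr, map_zero])⟩

theorem finite_H_zero (E : StarInjRes 𝒜 ℳ) (a : HomogeneousIdeal 𝒜) [Module.Finite R M] :
    Module.Finite R (E.H a 0) := by
  obtain ⟨e⟩ := K759.AcycInj.nonempty_equiv E a 0
  obtain ⟨f, hf⟩ := LCIface.exists_H0 a.toIdeal M
  exact Module.Finite.of_injective (f ∘ₗ e.toLinearMap) (hf.comp e.injective)

theorem Hcomp_eq_comp (E : StarInjRes 𝒜 ℳ) (a : HomogeneousIdeal 𝒜) (i : ℕ) (g : ι) :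
    E.Hcomp a i g = GrLC.comp 𝒜 (E.Hgr a i) g := rfl

theorem Hcomp_eq_bot_of_subsingleton (E : StarInjRes 𝒜 ℳ) (a : HomogeneousIdeal 𝒜) (i : ℕ) (g : ι)
    (h : Subsingleton (E.H a i)) : E.Hcomp a i g = ⊥ := by
  rw [eq_bot_iff]
  intro x _
  rw [Submodule.mem_bot]
  exact Subsingleton.elim _ _

/-- Finiteness in an exact sequence `P → Q → Q'` of submodules over a Noetherian ring. -/
theorem finite_of_exact' {S : Type*} [CommRing S] [IsNoetherianRing S] {H H' : Type*}
    [AddCommGroup H] [Module S H] [AddCommGroup H'] [Module S H'] (P : Submodule S H')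
    (Q Q' : Submodule S H) (δ : H' →ₗ[S] H) (x : H →ₗ[S] H) (hx : ∀ y ∈ Q, x y ∈ Q')
    (hk : ∀ y ∈ Q, x y = 0 → ∃ z ∈ P, δ z = y) (hP : Module.Finite S P)
    (hQ' : Module.Finite S Q') : Module.Finite S Q := by
  let ψ : Q →ₗ[S] Q' := x.restrict hx
  have hK : Module.Finite S (P.map δ) := Module.Finite.map P δ
  have hKN : IsNoetherian S (P.map δ) := isNoetherian_of_isNoetherianRing_of_finite S _
  have hle : (LinearMap.ker ψ).map Q.subtype ≤ P.map δ := by
    rintro _ ⟨y, hy, rfl⟩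
    obtain ⟨z, hz, hzy⟩ := hk y y.2 (congrArg Subtype.val (LinearMap.mem_ker.1 hy))
    exact ⟨z, hz, hzy⟩
  have h1 : IsNoetherian S ((LinearMap.ker ψ).map Q.subtype) := isNoetherian_of_le hle
  have h2 : IsNoetherian S (LinearMap.ker ψ) :=
    isNoetherian_of_linearEquiv ((LinearMap.ker ψ).equivMapOfInjective Q.subtype
      Q.injective_subtype).symm
  have h4 : IsNoetherian S Q' := isNoetherian_of_isNoetherianRing_of_finite S _
  have h3 : IsNoetherian S Q :=
    isNoetherian_of_range_eq_ker (LinearMap.ker ψ).subtype ψ (Submodule.range_subtype _)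
  exact Module.IsNoetherian.finite S Q

theorem finite_of_exact {S : Subring R} (hS : IsNoetherianRing S) {H H' : Type u} [AddCommGroup H]
    [Module R H] [AddCommGroup H'] [Module R H'] (P : Submodule S H') (Q Q' : Submodule S H)
    (δ : H' →ₗ[R] H) (x : R) (hx : ∀ y ∈ Q, x • y ∈ Q')
    (hk : ∀ y ∈ Q, x • y = 0 → ∃ z ∈ P, δ z = y) (hP : Module.Finite S P)
    (hQ' : Module.Finite S Q') : Module.Finite S Q :=
  finite_of_exact' P Q Q' (δ.restrictScalars S)
    ({ toFun := fun y => x • y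
       map_add' := fun y z => smul_add x (y : H) (z : H)
       map_smul' := fun c y => smul_comm x (c : R) (y : H) } : H →ₗ[S] H) hx hk hP hQ'

end General

variable {R : Type u} [CommRing R] [IsNoetherianRing R] {σ : Type u} [SetLike σ R]
  [AddSubgroupClass σ R] {𝒜 : ℤ → σ} [GradedRing 𝒜]

/-- Statement for one cohomological degree. -/
def Stmt (a : HomogeneousIdeal 𝒜) (i : ℕ) : Prop :=
  ∀ (X : GMod.{u} 𝒜) (_ : Module.Finite R X.carrier) (E : StarInjRes 𝒜 X.gr),
    (∃ r : ℤ, ∀ n, r ≤ n → E.Hcomp a i n = ⊥) ∧ ∀ n, Module.Finite (deg0 𝒜) (E.Hcomp a i n)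

theorem stmt_zero (a : HomogeneousIdeal 𝒜)
    (ha : a.toIdeal = Ideal.span (⋃ n ∈ Set.Ioi (0 : ℤ), (𝒜 n : Set R))) : Stmt a 0 := by
  intro X hX E
  have h1 := finite_H_zero E a
  let := K759.Hgr.Hdec E a 0
  constructor
  · obtain ⟨N, hN⟩ := K759.Pos.exists_upper (𝒜 := 𝒜) (E.Hgr a 0) a.toIdeal ha (by
      rw [eq_top_iff]
      intro x _
      exact torsion E a 0 x)
    refine ⟨N, fun n hn => ?_⟩
    rw [eq_bot_iff]
    exact fun x hx => hN n hn x hx
  · intro n
    exact K759.Piece.finite_comp 𝒜 (E.Hgr a 0) n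

variable (a : HomogeneousIdeal 𝒜)

/-- Reduction to modules without torsion. -/
theorem step_red (i : ℕ) (h : ∀ (X : GMod.{u} 𝒜) (_ : Module.Finite R X.carrier)
    (_ : gam a.toIdeal X.carrier = ⊥) (E : StarInjRes 𝒜 X.gr),
    (∃ r : ℤ, ∀ n, r ≤ n → E.Hcomp a (i + 1) n = ⊥) ∧
      ∀ n, Module.Finite (deg0 𝒜) (E.Hcomp a (i + 1) n)) : Stmt a (i + 1) := by
  intro X hX E
  have hΓ : (gam a.toIdeal X.carrier).IsHomogeneous X.gr := K763.GamHom.isHomogeneous_gam X.gr a
  let G : GMod.{u} 𝒜 := sub 𝒜 X.gr (gam a.toIdeal X.carrier) hΓ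
  let Y : GMod.{u} 𝒜 := quo 𝒜 X.gr (gam a.toIdeal X.carrier) hΓ
  have hY : Module.Finite R Y.carrier :=
    Module.Finite.of_surjective (gam a.toIdeal X.carrier).mkQ (Submodule.mkQ_surjective _)
  obtain ⟨F⟩ := nonempty_res 𝒜 Y.gr
  obtain ⟨D⟩ := nonempty_res 𝒜 G.gr
  have hf : IsGrHomDeg G.gr X.gr (gam a.toIdeal X.carrier).subtype 0 := fun g m hm => by
    rw [add_zero]; exact hm
  have hg : IsGrHomDeg X.gr Y.gr (gam a.toIdeal X.carrier).mkQ 0 := fun g m hm => by
    rw [add_zero]; exact ⟨m, hm, rfl⟩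
  obtain ⟨δ, -, -, h2, -, -⟩ := les D E F a hf hg (Submodule.injective_subtype _)
    (LinearMap.exact_subtype_mkQ _) (Submodule.mkQ_surjective _)
  have hD : Subsingleton (D.H a (i + 1)) := subsingleton_of_torsion D a (by
    rw [eq_top_iff]
    rintro ⟨x, n, hn⟩ -
    exact ⟨n, fun r hr => Subtype.ext (hn r hr)⟩) (i + 1) (Nat.succ_pos i)
  have hinj : Function.Injective (Hmap E F a (i + 1) (gam a.toIdeal X.carrier).mkQ hg) := by
    rw [injective_iff_map_eq_zero]
    intro x hx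
    obtain ⟨y, rfl⟩ := (h2 (i + 1) x).1 hx
    rw [Subsingleton.elim y 0, map_zero]
  have hmem : ∀ n, ∀ x ∈ E.Hcomp a (i + 1) n,
      Hmap E F a (i + 1) (gam a.toIdeal X.carrier).mkQ hg x ∈ F.Hcomp a (i + 1) n := by
    intro n x hx
    have := Hmap_mem E F a (i + 1) hg hx
    rwa [add_zero] at this
  obtain ⟨⟨r, hr⟩, hfin⟩ := h Y hY (K763.GamHom.gam_quotient_gam a.toIdeal) F
  refine ⟨⟨r, fun n hn => ?_⟩, fun n => ?_⟩
  · rw [eq_bot_iff]
    intro x hx
    have := hmem n x hx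
    rw [hr n hn, Submodule.mem_bot] at this
    rw [Submodule.mem_bot]
    exact hinj (this.trans (map_zero _).symm)
  · have := hfin n
    have hN := K759.Piece.isNoetherianRing_deg0 𝒜
    let φ : E.Hcomp a (i + 1) n →ₗ[deg0 𝒜] F.Hcomp a (i + 1) n :=
      ((Hmap E F a (i + 1) (gam a.toIdeal X.carrier).mkQ hg).restrictScalars (deg0 𝒜)).restrict
        (hmem n)
    refine Module.Finite.of_injective φ fun x y hxy => Subtype.ext (hinj ?_)
    exact congrArg Subtype.val hxy

/-- The inductive step for modules without torsion. -/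
theorem step (ha : a.toIdeal = Ideal.span (⋃ n ∈ Set.Ioi (0 : ℤ), (𝒜 n : Set R))) (i : ℕ)
    (ih : Stmt a i) (X : GMod.{u} 𝒜) (hX : Module.Finite R X.carrier)
    (hΓ : gam a.toIdeal X.carrier = ⊥) (E : StarInjRes 𝒜 X.gr) :
    (∃ r : ℤ, ∀ n, r ≤ n → E.Hcomp a (i + 1) n = ⊥) ∧
      ∀ n, Module.Finite (deg0 𝒜) (E.Hcomp a (i + 1) n) := by
  -- a regular element of positive degree
  obtain ⟨x, t, ht, hx, hreg⟩ := K759.Avoid.exists_regular 𝒜 (M := X.carrier) (by
    intro m hm
    have : m ∈ gam a.toIdeal X.carrier := by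
      refine ⟨1, fun r hr => ?_⟩
      rw [pow_one, ha] at hr
      induction hr using Submodule.span_induction with
      | zero => rw [zero_smul]
      | mem r hr =>
        simp only [Set.mem_iUnion, Set.mem_Ioi] at hr
        obtain ⟨n, hn, hr⟩ := hr
        exact hm n r hn hr
      | add r s _ _ hr hs => rw [add_smul, hr, hs, add_zero]
      | smul r s _ hs => rw [smul_eq_mul, mul_smul, hs, smul_zero]
    rw [hΓ] at this
    exact this)
  have hxa : x ∈ a.toIdeal := K759.Pos.mem_of_pos (𝒜 := 𝒜) a.toIdeal ha ht hx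
  let f : X.carrier →ₗ[R] X.carrier := x • LinearMap.id
  have hf : IsGrHomDeg X.gr X.gr f t := fun g m hm => by
    change x • m ∈ _
    rw [add_comm]
    exact smul_mem 𝒜 X.gr hx hm
  have hR : (LinearMap.range f).IsHomogeneous X.gr := isHomogeneous_rangeDeg hf
  let Q : GMod.{u} 𝒜 := quo 𝒜 X.gr (LinearMap.range f) hR
  have hQ : Module.Finite R Q.carrier :=
    Module.Finite.of_surjective (LinearMap.range f).mkQ (Submodule.mkQ_surjective _)
  obtain ⟨F⟩ := nonempty_res 𝒜 Q.gr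
  have hg : IsGrHomDeg X.gr Q.gr (LinearMap.range f).mkQ 0 := fun g m hm => by
    rw [add_zero]; exact ⟨m, hm, rfl⟩
  have hex : Function.Exact f (LinearMap.range f).mkQ := by
    rw [LinearMap.exact_iff, Submodule.ker_mkQ]
  obtain ⟨δ, hδ, -, -, -, h3⟩ := les E E F a hf hg (by
      rw [injective_iff_map_eq_zero]
      exact hreg) hex (Submodule.mkQ_surjective _)
  obtain ⟨⟨r, hr⟩, hfin⟩ := ih Q hQ F
  have hfx : ∀ (j : ℕ) (y : E.H a j), Hmap E E a j f hf y = x • y := fun j y =>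
    Hmap_smul_id E a j hx hf y
  -- the graded kernel of multiplication by `x`
  let := K759.Hgr.Hdec F a i
  let := K759.Hgr.Hdec E a (i + 1)
  have hδ' : IsGrHomDeg (F.Hgr a i) (E.Hgr a (i + 1)) (δ i) (-t) := fun g m hm => by
    have := hδ i g m hm
    rw [sub_zero, sub_eq_add_neg] at this
    exact this
  have hker : ∀ n, ∀ y ∈ E.Hcomp a (i + 1) n, x • y = 0 → ∃ z ∈ F.Hcomp a i (n + t), δ i z = y := by
    intro n y hy hxy
    obtain ⟨z, hz⟩ := (h3 i y).1 ((hfx (i + 1) y).trans hxy)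
    refine ⟨K759.Gr.cmp (F.Hgr a i) (n + t) z, cmp_mem (F.Hgr a i) _ _, ?_⟩
    have h4 := cmp_mapDeg hδ' (n + t) z
    rw [add_neg_cancel_right, hz] at h4
    have h5 := cmp_same (E.Hgr a (i + 1)) (i := n) (x := y) hy
    rw [← h4, h5]
  have hxmem : ∀ n, ∀ y ∈ E.Hcomp a (i + 1) n, x • y ∈ E.Hcomp a (i + 1) (n + t) := by
    intro n y hy
    have := smul_mem 𝒜 (E.Hgr a (i + 1)) hx hy
    rwa [add_comm t n] at this
  have hvan : ∀ n, r - t ≤ n → ∀ y ∈ E.Hcomp a (i + 1) n, y = 0 := by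
    have key : ∀ (k : ℕ) (n : ℤ), r - t ≤ n → ∀ y ∈ E.Hcomp a (i + 1) n, x ^ k • y = 0 → y = 0 := by
      intro k
      induction k with
      | zero => intro n _ y _ h; rwa [pow_zero, one_smul] at h
      | succ k ihk =>
        intro n hn y hy h
        rw [pow_succ, mul_smul] at h
        have h1 : x • y = 0 := ihk (n + t) (by omega) _ (hxmem n y hy) h
        obtain ⟨z, hz, rfl⟩ := hker n y hy h1
        rw [hr (n + t) (by omega), Submodule.mem_bot] at hz
        rw [hz, map_zero]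
    intro n hn y hy
    obtain ⟨k, hk⟩ := torsion E a (i + 1) y
    exact key k n hn y hy (hk _ (Ideal.pow_mem_pow hxa k))
  refine ⟨⟨r - t, fun n hn => ?_⟩, ?_⟩
  · rw [eq_bot_iff]
    exact fun y hy => hvan n hn y hy
  · have hN := K759.Piece.isNoetherianRing_deg0 𝒜
    have key : ∀ (k : ℕ) (n : ℤ), r - t - k ≤ n → Module.Finite (deg0 𝒜) (E.Hcomp a (i + 1) n) := by
      intro k
      induction k with
      | zero =>
        intro n hn
        have : E.Hcomp a (i + 1) n = ⊥ := by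
          rw [eq_bot_iff]
          exact fun y hy => hvan n (by simpa using hn) y hy
        rw [this]
        infer_instance
      | succ k ihk =>
        intro n hn
        have h1 := ihk (n + t) (by push_cast at hn; omega)
        have h2 := hfin (n + t)
        exact finite_of_exact hN (F.Hcomp a i (n + t)) (E.Hcomp a (i + 1) n)
          (E.Hcomp a (i + 1) (n + t)) (δ i) x (hxmem n) (hker n) h2 h1
    intro n
    exact key (r - t - n).toNat n (by omega)

theorem stmt (ha : a.toIdeal = Ideal.span (⋃ n ∈ Set.Ioi (0 : ℤ), (𝒜 n : Set R))) (i : ℕ) :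
    Stmt a i := by
  induction i with
  | zero => exact stmt_zero a ha
  | succ i ih => exact step_red a i fun X hX hΓ E => step a ha i ih X hX hΓ E

end K859.SerreG
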