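import Groth.Agent.GrLC.K759.GrObj
import Groth.Agent.GrLC.K963.Iface

/-!
# Vanishing of pieces of graded local cohomology: calculus

`Van a ℳ i e` says that the piece of degree `e` of `H^i_a(M)` vanishes (for every, equivalently for
one *injective resolution).  Transfer lemmas along short exact sequences of graded modules.
-/

set_option autoImplicit false
set_option linter.unusedSectionVars false
universe u

open GrLC DirectSum K759.Gr

namespace K859.Van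

variable {ι : Type} [AddCommGroup ι] [DecidableEq ι]
variable {R : Type u} [CommRing R] {σ : Type u} [SetLike σ R] [AddSubgroupClass σ R]
variable {𝒜 : ι → σ} [GradedRing 𝒜]
variable {M : Type u} [AddCommGroup M] [Module R M] {τ : Type u} [SetLike τ M] [AddSubgroupClass τ M]
  {ℳ : ι → τ} [DirectSum.Decomposition ℳ] [SetLike.GradedSMul 𝒜 ℳ]
variable {N : Type u} [AddCommGroup N] [Module R N] {τN : Type u} [SetLike τN N] [AddSubgroupClass τN N]
  {𝒩 : ι → τN} [DirectSum.Decomposition 𝒩] [SetLike.GradedSMul 𝒜 𝒩]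
variable {P : Type u} [AddCommGroup P] [Module R P] {τP : Type u} [SetLike τP P] [AddSubgroupClass τP P]
  {𝒬 : ι → τP} [DirectSum.Decomposition 𝒬] [SetLike.GradedSMul 𝒜 𝒬]

/-- The piece of degree `e` of `H^i_a(M)` vanishes. -/
def Van (a : HomogeneousIdeal 𝒜) (ℳ : ι → τ) [DirectSum.Decomposition ℳ] [SetLike.GradedSMul 𝒜 ℳ]
    (i : ℕ) (e : ι) : Prop :=
  ∀ E : StarInjRes 𝒜 ℳ, E.Hcomp a i e = ⊥

theorem exists_lift_deg {f : M →ₗ[R] N} {d : ι} (hf : GrLC.IsGrHomDeg ℳ 𝒩 f d) {i : ι} {y : N}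
    (hy : y ∈ 𝒩 (i + d)) (h : ∃ x, f x = y) : ∃ x ∈ ℳ i, f x = y := by
  obtain ⟨x, rfl⟩ := h
  exact ⟨cmp ℳ i x, cmp_mem ℳ i x, by rw [← cmp_mapDeg hf i x, cmp_same 𝒩 hy]⟩

section

variable (E : StarInjRes 𝒜 ℳ) (F : StarInjRes 𝒜 𝒩) (G : StarInjRes 𝒜 𝒬) (a : HomogeneousIdeal 𝒜)
  (i : ℕ)

theorem Hmap_gr {f : M →ₗ[R] N} {d : ι} (hf : IsGrHomDeg ℳ 𝒩 f d) :
    IsGrHomDeg (E.Hgr a i) (F.Hgr a i) (K963.Iface.Hmap E F a i f hf) d :=
  fun _ _ hx => K963.Iface.Hmap_mem E F a i hf hx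

theorem Hmap_congr {f f' : M →ₗ[R] N} {d : ι} (h : f = f') (hf : IsGrHomDeg ℳ 𝒩 f d)
    (hf' : IsGrHomDeg ℳ 𝒩 f' d) (x : E.H a i) :
    K963.Iface.Hmap E F a i f hf x = K963.Iface.Hmap E F a i f' hf' x := by
  subst h; rfl

theorem Hmap_congr_deg {f : M →ₗ[R] N} {d d' : ι} (h : d = d') (hf : IsGrHomDeg ℳ 𝒩 f d)
    (hf' : IsGrHomDeg ℳ 𝒩 f d') (x : E.H a i) :
    K963.Iface.Hmap E F a i f hf x = K963.Iface.Hmap E F a i f hf' x := by
  subst h; rfl

theorem Hmap_zero {d : ι} (hf : IsGrHomDeg ℳ 𝒩 (0 : M →ₗ[R] N) d) (x : E.H a i) :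
    K963.Iface.Hmap E F a i 0 hf x = 0 := by
  have h0 : (0 : M →ₗ[R] N) + 0 = 0 := add_zero 0
  have h1 : IsGrHomDeg ℳ 𝒩 ((0 : M →ₗ[R] N) + 0) d := by rw [h0]; exact hf
  have h2 := K963.Iface.Hmap_add E F a i hf hf h1 x
  rw [Hmap_congr E F a i h0 h1 hf] at h2
  exact left_eq_add.1 h2

theorem Hmap_sum {S : Type} (f : S → M →ₗ[R] N) {d : ι} (hf : ∀ s, IsGrHomDeg ℳ 𝒩 (f s) d)
    (T : Finset S) (hT : IsGrHomDeg ℳ 𝒩 (∑ s ∈ T, f s) d) (x : E.H a i) :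
    K963.Iface.Hmap E F a i (∑ s ∈ T, f s) hT x = ∑ s ∈ T, K963.Iface.Hmap E F a i (f s) (hf s) x := by
  classical
  induction T using Finset.induction_on with
  | empty =>
    rw [Hmap_congr E F a i Finset.sum_empty hT (fun _ _ _ => zero_mem _), Finset.sum_empty]
    exact Hmap_zero E F a i _ x
  | insert s T hs ih =>
    have hT' : IsGrHomDeg ℳ 𝒩 (∑ s ∈ T, f s) d := by
      intro g m hm
      rw [LinearMap.sum_apply]
      exact sum_mem fun s _ => hf s g m hm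
    have h1 : IsGrHomDeg ℳ 𝒩 (f s + ∑ s ∈ T, f s) d := fun g m hm =>
      add_mem (hf s g m hm) (hT' g m hm)
    rw [Hmap_congr E F a i (Finset.sum_insert hs) hT h1,
      K963.Iface.Hmap_add E F a i (hf s) hT' h1, ih hT', Finset.sum_insert hs]

/-- a homogeneous class in the image of `Hmap` is the image of a homogeneous class -/
theorem exists_Hmap_eq {f : M →ₗ[R] N} {d : ι} (hf : IsGrHomDeg ℳ 𝒩 f d) {e : ι} {y : F.H a i}
    (hy : y ∈ F.Hcomp a i (e + d)) (h : ∃ x, K963.Iface.Hmap E F a i f hf x = y) :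
    ∃ x ∈ E.Hcomp a i e, K963.Iface.Hmap E F a i f hf x = y := by
  let := K963.Iface.Hdec E a i
  let := K963.Iface.Hdec F a i
  obtain ⟨x, hx, h⟩ := exists_lift_deg (ℳ := E.Hgr a i) (𝒩 := F.Hgr a i) (Hmap_gr E F a i hf) hy h
  exact ⟨x, hx, h⟩

end

/-- independence of the resolution -/
theorem van_iff (a : HomogeneousIdeal 𝒜) {i : ℕ} {e : ι} (E : StarInjRes 𝒜 ℳ) :
    Van a ℳ i e ↔ E.Hcomp a i e = ⊥ := by
  refine ⟨fun h => h E, fun h E' => ?_⟩
  rw [eq_bot_iff]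
  intro x hx
  have hid : IsGrHomDeg ℳ ℳ (LinearEquiv.refl R M).toLinearMap 0 := fun g m hm => by
    rw [add_zero]; exact hm
  have h1 := (K963.Iface.Hequiv_mem_iff E' E a i (LinearEquiv.refl R M) hid x (g := e)).2 hx
  rw [add_zero, h, Submodule.mem_bot, LinearEquiv.map_eq_zero_iff] at h1
  exact h1

/-- transport along a homogeneous isomorphism of any degree -/
theorem Van.of_equiv {a : HomogeneousIdeal 𝒜} {i : ℕ} {e : ι} (f : M ≃ₗ[R] N) {d : ι}
    (hf : IsGrHomDeg ℳ 𝒩 f.toLinearMap d) (h : Van a 𝒩 i (e + d)) : Van a ℳ i e := by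
  obtain ⟨F⟩ := K963.Iface.nonempty_res 𝒜 𝒩
  intro E
  rw [eq_bot_iff]
  intro x hx
  have h1 := (K963.Iface.Hequiv_mem_iff E F a i f hf x (g := e)).2 hx
  rw [h F, Submodule.mem_bot, LinearEquiv.map_eq_zero_iff] at h1
  exact h1

section ses

variable {a : HomogeneousIdeal 𝒜} {f : M →ₗ[R] N} {g : N →ₗ[R] P} {df dg : ι}
    (hf : IsGrHomDeg ℳ 𝒩 f df)
    (hg : IsGrHomDeg 𝒩 𝒬 g dg) (hinj : Function.Injective f) (hex : Function.Exact f g)
    (hsurj : Function.Surjective g)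

include hf hg hinj hex hsurj

/-- middle term (general degrees) -/
theorem van_mid {i : ℕ} {e : ι} (h1 : Van a ℳ i e) (h3 : Van a 𝒬 i (e + df + dg)) :
    Van a 𝒩 i (e + df) := by
  obtain ⟨E⟩ := K963.Iface.nonempty_res 𝒜 ℳ
  obtain ⟨G⟩ := K963.Iface.nonempty_res 𝒜 𝒬
  intro F
  obtain ⟨δ, _, _, h12, _, _⟩ := K963.Iface.les E F G a hf hg hinj hex hsurj
  rw [eq_bot_iff]
  intro y hy
  have hy1 : K963.Iface.Hmap F G a i g hg y ∈ G.Hcomp a i (e + df + dg) :=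
    K963.Iface.Hmap_mem F G a i hg hy
  rw [h3 G, Submodule.mem_bot] at hy1
  obtain ⟨x, hx, hxy⟩ := exists_Hmap_eq E F a i hf hy ((h12 i y).1 hy1)
  rw [h1 E, Submodule.mem_bot] at hx
  rw [Submodule.mem_bot, ← hxy, hx, map_zero]

/-- right term -/
theorem van_right {i : ℕ} {e : ι} (h2 : Van a 𝒩 i (e + df)) (h1 : Van a ℳ (i + 1) e) :
    Van a 𝒬 i (e + df + dg) := by
  obtain ⟨E⟩ := K963.Iface.nonempty_res 𝒜 ℳ
  obtain ⟨F⟩ := K963.Iface.nonempty_res 𝒜 𝒩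
  intro G
  obtain ⟨δ, hδ, _, _, h23, _⟩ := K963.Iface.les E F G a hf hg hinj hex hsurj
  rw [eq_bot_iff]
  intro z hz
  have hz1 := hδ i _ z hz
  rw [show e + df + dg - dg - df = e by abel, h1 E, Submodule.mem_bot] at hz1
  obtain ⟨y, hy, hyz⟩ := exists_Hmap_eq F G a i hg hz ((h23 i z).1 hz1)
  rw [h2 F, Submodule.mem_bot] at hy
  rw [Submodule.mem_bot, ← hyz, hy, map_zero]

/-- left term -/
theorem van_left {i : ℕ} {e : ι} (h3 : Van a 𝒬 i (e + df + dg)) (h2 : Van a 𝒩 (i + 1) (e + df)) :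
    Van a ℳ (i + 1) e := by
  obtain ⟨F⟩ := K963.Iface.nonempty_res 𝒜 𝒩
  obtain ⟨G⟩ := K963.Iface.nonempty_res 𝒜 𝒬
  intro E
  obtain ⟨δ, hδ, _, _, _, h31⟩ := K963.Iface.les E F G a hf hg hinj hex hsurj
  rw [eq_bot_iff]
  intro x hx
  have hx1 : K963.Iface.Hmap E F a (i + 1) f hf x ∈ F.Hcomp a (i + 1) (e + df) :=
    K963.Iface.Hmap_mem E F a (i + 1) hf hx
  rw [h2 F, Submodule.mem_bot] at hx1
  obtain ⟨z, hz⟩ := (h31 i x).1 hx1
  -- take the homogeneous component of z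
  let := K963.Iface.Hdec G a i
  let := K963.Iface.Hdec E a (i + 1)
  have hδ' : IsGrHomDeg (G.Hgr a i) (E.Hgr a (i + 1)) (δ i) (-dg - df) := by
    intro h y hy
    have := hδ i h y hy
    rwa [show h - dg - df = h + (-dg - df) by abel] at this
  obtain ⟨z', hz', hzz⟩ := exists_lift_deg hδ' (i := e + df + dg) (y := x)
    (by rw [show e + df + dg + (-dg - df) = e by abel]; exact hx) ⟨z, hz⟩
  have hz'' : z' ∈ G.Hcomp a i (e + df + dg) := hz'
  rw [h3 G, Submodule.mem_bot] at hz''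
  rw [Submodule.mem_bot, ← hzz, hz'', map_zero]

/-- the left term in degree zero -/
theorem van_left_zero {e : ι} (h2 : Van a 𝒩 0 (e + df)) : Van a ℳ 0 e := by
  obtain ⟨F⟩ := K963.Iface.nonempty_res 𝒜 𝒩
  obtain ⟨G⟩ := K963.Iface.nonempty_res 𝒜 𝒬
  intro E
  obtain ⟨δ, _, hi, _, _, _⟩ := K963.Iface.les E F G a hf hg hinj hex hsurj
  rw [eq_bot_iff]
  intro x hx
  have hx1 : K963.Iface.Hmap E F a 0 f hf x ∈ F.Hcomp a 0 (e + df) :=
    K963.Iface.Hmap_mem E F a 0 hf hx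
  rw [h2 F, Submodule.mem_bot] at hx1
  rw [Submodule.mem_bot]
  exact hi (by rw [hx1, map_zero])

end ses

section ses0

variable {a : HomogeneousIdeal 𝒜} {f : M →ₗ[R] N} {g : N →ₗ[R] P}
    (hf : IsGrHom ℳ 𝒩 f)
    (hg : IsGrHom 𝒩 𝒬 g) (hinj : Function.Injective f) (hex : Function.Exact f g)
    (hsurj : Function.Surjective g)

include hf hg hinj hex hsurj

/-- middle term -/
theorem van_mid₀ {i : ℕ} {e : ι} (h1 : Van a ℳ i e) (h3 : Van a 𝒬 i e) : Van a 𝒩 i e := by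
  have := van_mid (isGrHomDeg_zero_iff.2 hf) (isGrHomDeg_zero_iff.2 hg) hinj hex hsurj h1
    (by rw [add_zero, add_zero]; exact h3)
  rwa [add_zero] at this

/-- right term -/
theorem van_right₀ {i : ℕ} {e : ι} (h2 : Van a 𝒩 i e) (h1 : Van a ℳ (i + 1) e) :
    Van a 𝒬 i e := by
  have := van_right (isGrHomDeg_zero_iff.2 hf) (isGrHomDeg_zero_iff.2 hg) hinj hex hsurj
    (by rw [add_zero]; exact h2) h1
  rwa [add_zero, add_zero] at this

/-- left term -/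
theorem van_left₀ {i : ℕ} {e : ι} (h3 : Van a 𝒬 i e) (h2 : Van a 𝒩 (i + 1) e) :
    Van a ℳ (i + 1) e :=
  van_left (isGrHomDeg_zero_iff.2 hf) (isGrHomDeg_zero_iff.2 hg) hinj hex hsurj
    (by rw [add_zero, add_zero]; exact h3) (by rw [add_zero]; exact h2)

end ses0

/-- torsion modules have no higher local cohomology -/
theorem van_of_torsion [IsNoetherianRing R] {a : HomogeneousIdeal 𝒜} (hM : gam a.toIdeal M = ⊤)
    {i : ℕ} (hi : 0 < i) (e : ι) : Van a ℳ i e := fun E =>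
  K963.Iface.Hcomp_eq_bot_of_subsingleton E a i
    (K963.Iface.H_subsingleton_of_torsion E a i hM hi) e

theorem van_of_subsingleton [Subsingleton M] {a : HomogeneousIdeal 𝒜} (i : ℕ) (e : ι) :
    Van a ℳ i e := by
  intro E
  rw [eq_bot_iff]
  intro x _
  have h0 : IsGrHomDeg ℳ ℳ (LinearMap.id : M →ₗ[R] M) 0 := fun g m hm => by rwa [add_zero]
  rw [Submodule.mem_bot, ← K963.Iface.Hmap_id E a i h0 x,
    Hmap_congr E E a i (Subsingleton.elim _ (0 : M →ₗ[R] M)) h0 (fun _ _ _ => zero_mem _)]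
  exact Hmap_zero E E a i _ x

/-- `H^0` of a graded module -/
theorem van_zero_iff {a : HomogeneousIdeal 𝒜} {e : ι} :
    Van a ℳ 0 e ↔ ∀ m : M, m ∈ ℳ e → m ∈ gam a.toIdeal M → m = 0 := by
  obtain ⟨E⟩ := K963.Iface.nonempty_res 𝒜 ℳ
  rw [van_iff a E]
  constructor
  · intro h m hm hm'
    have h1 := (K963.Iface.H0equiv_mem_iff E a ⟨m, hm'⟩ e).2 hm
    rw [h, Submodule.mem_bot, LinearEquiv.map_eq_zero_iff] at h1
    exact congrArg Subtype.val h1
  · intro h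
    rw [eq_bot_iff]
    intro x hx
    obtain ⟨⟨m, hm⟩, rfl⟩ := (K963.Iface.H0equiv E a).surjective x
    have h1 := (K963.Iface.H0equiv_mem_iff E a ⟨m, hm⟩ e).1 hx
    have h2 := h m h1 hm
    rw [Submodule.mem_bot, LinearEquiv.map_eq_zero_iff]
    exact Subtype.ext h2

/-- pieces of a finite "direct sum": if the identity of `N` is a finite sum of composites
`N → M → N` homogeneous of degree `-d s` and `d s`, then vanishing passes from `M` to `N`. -/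
theorem van_of_sum {a : HomogeneousIdeal 𝒜} {i : ℕ} {e : ι} {S : Type} [Fintype S]
    (d : S → ι) (π : S → N →ₗ[R] M) (j : S → M →ₗ[R] N) (hπ : ∀ s, IsGrHomDeg 𝒩 ℳ (π s) (- d s))
    (hj : ∀ s, IsGrHomDeg ℳ 𝒩 (j s) (d s)) (hsum : ∀ x, ∑ s, j s (π s x) = x)
    (h : ∀ s, Van a ℳ i (e - d s)) : Van a 𝒩 i e := by
  obtain ⟨E⟩ := K963.Iface.nonempty_res 𝒜 ℳ
  intro F
  rw [eq_bot_iff]
  intro x hx
  have hd : ∀ s, IsGrHomDeg 𝒩 𝒩 (j s ∘ₗ π s) 0 := fun s g m hm => by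
    have := hj s _ _ (hπ s g m hm)
    rw [neg_add_cancel_right] at this
    rwa [add_zero]
  have hid : (LinearMap.id : N →ₗ[R] N) = ∑ s, j s ∘ₗ π s := by
    apply LinearMap.ext
    intro x
    rw [LinearMap.sum_apply]
    exact (hsum x).symm
  have h0 : IsGrHomDeg 𝒩 𝒩 (LinearMap.id : N →ₗ[R] N) 0 := fun g m hm => by rwa [add_zero]
  have h0' : IsGrHomDeg 𝒩 𝒩 (∑ s, j s ∘ₗ π s) 0 := by rw [← hid]; exact h0
  rw [Submodule.mem_bot, ← K963.Iface.Hmap_id F a i h0 x, Hmap_congr F F a i hid h0 h0',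
    Hmap_sum F F a i _ hd]
  refine Finset.sum_eq_zero fun s _ => ?_
  have hs1 : IsGrHomDeg 𝒩 𝒩 (j s ∘ₗ π s) (- d s + d s) := fun g m hm => by
    have := hj s _ _ (hπ s g m hm)
    rwa [add_assoc] at this
  rw [Hmap_congr_deg F F a i (neg_add_cancel (d s)).symm (hd s) hs1,
    K963.Iface.Hmap_comp F E F a i (hπ s) (hj s) hs1 x]
  have h5 : K963.Iface.Hmap F E a i (π s) (hπ s) x = 0 := by
    have := K963.Iface.Hmap_mem F E a i (hπ s) hx
    rw [← sub_eq_add_neg, h s E, Submodule.mem_bot] at this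
    exact this
  rw [h5, map_zero]

end K859.Van
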