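import Groth.Agent.GrLC.K859.AltLen
import Groth.Agent.GrLC.K859.Van
import Groth.Agent.GrLC.K859.SerreG

/-!
# The Serre-Grothendieck formula

`H_M(n) - P_M(n) = ∑ (-1)^i ℓ(H^i(M)_n)` for local cohomology at the irrelevant ideal.
-/

set_option autoImplicit false
set_option linter.unusedSectionVars false
universe u

open GrLC DirectSum K759.Gr K759.GrObj K963.Iface K859.AltLen

namespace K859.HilbLC

section General

variable {ι : Type} [AddCommGroup ι] [DecidableEq ι]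
variable {R : Type u} [CommRing R] [IsNoetherianRing R] {σ : Type u} [SetLike σ R]
  [AddSubgroupClass σ R] {𝒜 : ι → σ} [GradedRing 𝒜]
variable {M : Type u} [AddCommGroup M] [Module R M] {τ : Type u} [SetLike τ M] [AddSubgroupClass τ M]
  {ℳ : ι → τ} [DirectSum.Decomposition ℳ] [SetLike.GradedSMul 𝒜 ℳ]
variable {N : Type u} [AddCommGroup N] [Module R N] {τN : Type u} [SetLike τN N] [AddSubgroupClass τN N]
  {𝒩 : ι → τN} [DirectSum.Decomposition 𝒩] [SetLike.GradedSMul 𝒜 𝒩]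
variable {P : Type u} [AddCommGroup P] [Module R P] {τP : Type u} [SetLike τP P] [AddSubgroupClass τP P]
  {𝒬 : ι → τP} [DirectSum.Decomposition 𝒬] [SetLike.GradedSMul 𝒜 𝒬]

/-- alternating sum of the lengths of the pieces of degree `n` of local cohomology -/
noncomputable def chi (E : StarInjRes 𝒜 ℳ) (a : HomogeneousIdeal 𝒜) (B : ℕ) (n : ι) : ℚ :=
  ∑ i ∈ Finset.range (B + 1), (-1 : ℚ) ^ i * len (deg0 𝒜) (E.Hcomp a i n)

/-- the long exact sequence, on homogeneous pieces -/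
theorem exists_piece_les (E : StarInjRes 𝒜 ℳ) (F : StarInjRes 𝒜 𝒩) (G : StarInjRes 𝒜 𝒬)
    (a : HomogeneousIdeal 𝒜) {f : M →ₗ[R] N} {g : N →ₗ[R] P} {t : ι} (hf : IsGrHomDeg ℳ 𝒩 f t)
    (hg : IsGrHomDeg 𝒩 𝒬 g 0) (hinj : Function.Injective f) (hex : Function.Exact f g)
    (hsurj : Function.Surjective g) (n : ι) :
    ∃ (φ : ∀ i, E.Hcomp a i (n - t) →ₗ[deg0 𝒜] F.Hcomp a i n)
      (ψ : ∀ i, F.Hcomp a i n →ₗ[deg0 𝒜] G.Hcomp a i n)
      (δ : ∀ i, G.Hcomp a i n →ₗ[deg0 𝒜] E.Hcomp a (i + 1) (n - t)),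
      Function.Injective (φ 0) ∧ (∀ i, Function.Exact (φ i) (ψ i)) ∧
      (∀ i, Function.Exact (ψ i) (δ i)) ∧ (∀ i, Function.Exact (δ i) (φ (i + 1))) ∧
      (∀ i x, (φ i x : F.H a i) = Hmap E F a i f hf x) ∧
      (∀ i x, (ψ i x : G.H a i) = Hmap F G a i g hg x) := by
  obtain ⟨δ, hδ, e0, e1, e2, e3⟩ := les E F G a hf hg hinj hex hsurj
  have hfm : ∀ i, ∀ x ∈ E.Hcomp a i (n - t), Hmap E F a i f hf x ∈ F.Hcomp a i n := by
    intro i x hx
    have := Hmap_mem E F a i hf hx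
    rwa [sub_add_cancel] at this
  have hgm : ∀ i, ∀ x ∈ F.Hcomp a i n, Hmap F G a i g hg x ∈ G.Hcomp a i n := by
    intro i x hx
    have := Hmap_mem F G a i hg hx
    rwa [add_zero] at this
  have hδm : ∀ i, ∀ x ∈ G.Hcomp a i n, δ i x ∈ E.Hcomp a (i + 1) (n - t) := by
    intro i x hx
    have := hδ i n x hx
    rwa [sub_zero] at this
  have hδg : ∀ i, IsGrHomDeg (G.Hgr a i) (E.Hgr a (i + 1)) (δ i) (-t) := by
    intro i h x hx
    have := hδ i h x hx
    rw [sub_zero, sub_eq_add_neg] at this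
    exact this
  refine ⟨fun i => ((Hmap E F a i f hf).restrictScalars (deg0 𝒜)).restrict (hfm i),
    fun i => ((Hmap F G a i g hg).restrictScalars (deg0 𝒜)).restrict (hgm i),
    fun i => ((δ i).restrictScalars (deg0 𝒜)).restrict (hδm i), ?_, ?_, ?_, ?_,
    fun _ _ => rfl, fun _ _ => rfl⟩
  · intro x y h
    exact Subtype.ext (e0 (congrArg Subtype.val h))
  · intro i y
    let := Hdec E a i
    let := Hdec F a i
    constructor
    · intro h
      have h4 := congrArg Subtype.val h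
      obtain ⟨x, hx, hxy⟩ := K859.Van.exists_lift_deg (ℳ := E.Hgr a i) (𝒩 := F.Hgr a i)
        (K859.Van.Hmap_gr E F a i hf) (i := n - t) (y := (y : F.H a i))
        (by rw [sub_add_cancel]; exact y.2) ((e1 i y).1 h4)
      exact ⟨⟨x, hx⟩, Subtype.ext hxy⟩
    · rintro ⟨x, rfl⟩
      exact Subtype.ext ((e1 i _).2 ⟨x, rfl⟩)
  · intro i y
    let := Hdec F a i
    let := Hdec G a i
    constructor
    · intro h
      have h4 := congrArg Subtype.val h
      obtain ⟨x, hx, hxy⟩ := K859.Van.exists_lift_deg (ℳ := F.Hgr a i) (𝒩 := G.Hgr a i)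
        (K859.Van.Hmap_gr F G a i hg) (i := n) (y := (y : G.H a i))
        (by rw [add_zero]; exact y.2) ((e2 i y).1 h4)
      exact ⟨⟨x, hx⟩, Subtype.ext hxy⟩
    · rintro ⟨x, rfl⟩
      exact Subtype.ext ((e2 i _).2 ⟨x, rfl⟩)
  · intro i y
    let := Hdec G a i
    let := Hdec E a (i + 1)
    constructor
    · intro h
      have h4 := congrArg Subtype.val h
      obtain ⟨x, hx, hxy⟩ := K859.Van.exists_lift_deg (ℳ := G.Hgr a i) (𝒩 := E.Hgr a (i + 1))
        (hδg i) (i := n) (y := (y : E.H a (i + 1)))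
        (by rw [← sub_eq_add_neg]; exact y.2) ((e3 i y).1 h4)
      exact ⟨⟨x, hx⟩, Subtype.ext hxy⟩
    · rintro ⟨x, rfl⟩
      exact Subtype.ext ((e3 i _).2 ⟨x, rfl⟩)

theorem exists_piece_les' (E : StarInjRes 𝒜 ℳ) (F : StarInjRes 𝒜 𝒩) (G : StarInjRes 𝒜 𝒬)
    (a : HomogeneousIdeal 𝒜) {f : M →ₗ[R] N} {g : N →ₗ[R] P} {t : ι} (hf : IsGrHomDeg ℳ 𝒩 f t)
    (hg : IsGrHomDeg 𝒩 𝒬 g 0) (hinj : Function.Injective f) (hex : Function.Exact f g)
    (hsurj : Function.Surjective g) (m n : ι) (hmn : m + t = n) :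
    ∃ (φ : ∀ i, E.Hcomp a i m →ₗ[deg0 𝒜] F.Hcomp a i n)
      (ψ : ∀ i, F.Hcomp a i n →ₗ[deg0 𝒜] G.Hcomp a i n)
      (δ : ∀ i, G.Hcomp a i n →ₗ[deg0 𝒜] E.Hcomp a (i + 1) m),
      Function.Injective (φ 0) ∧ (∀ i, Function.Exact (φ i) (ψ i)) ∧
      (∀ i, Function.Exact (ψ i) (δ i)) ∧ (∀ i, Function.Exact (δ i) (φ (i + 1))) ∧
      (∀ i x, (φ i x : F.H a i) = Hmap E F a i f hf x) ∧
      (∀ i x, (ψ i x : G.H a i) = Hmap F G a i g hg x) := by
  obtain rfl : m = n - t := eq_sub_of_add_eq hmn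
  exact exists_piece_les E F G a hf hg hinj hex hsurj n

theorem chi_add (E : StarInjRes 𝒜 ℳ) (F : StarInjRes 𝒜 𝒩) (G : StarInjRes 𝒜 𝒬)
    (a : HomogeneousIdeal 𝒜) {f : M →ₗ[R] N} {g : N →ₗ[R] P} {t : ι} (hf : IsGrHomDeg ℳ 𝒩 f t)
    (hg : IsGrHomDeg 𝒩 𝒬 g 0) (hinj : Function.Injective f) (hex : Function.Exact f g)
    (hsurj : Function.Surjective g) (n : ι) (B : ℕ) (hB : Subsingleton (E.H a (B + 1)))
    (h1 : ∀ i, IsFiniteLength (deg0 𝒜) (E.Hcomp a i (n - t)))
    (h2 : ∀ i, IsFiniteLength (deg0 𝒜) (F.Hcomp a i n))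
    (h3 : ∀ i, IsFiniteLength (deg0 𝒜) (G.Hcomp a i n)) :
    chi F a B n = chi E a B (n - t) + chi G a B n := by
  obtain ⟨φ, ψ, δ, e0, e1, e2, e3, -, -⟩ := exists_piece_les E F G a hf hg hinj hex hsurj n
  refine alt_sum' (S := deg0 𝒜) (fun i => E.Hcomp a i (n - t)) (fun i => F.Hcomp a i n)
    (fun i => G.Hcomp a i n) φ ψ δ h1 h2 h3 e0 e1 e2 e3 B ?_
  change Subsingleton (E.Hcomp a (B + 1) (n - t))
  infer_instance

/-- local cohomology at ideals with the same torsion functor -/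
theorem exists_equiv_of_gam_eq (E : StarInjRes 𝒜 ℳ) (a b : HomogeneousIdeal 𝒜)
    (h : ∀ (X : Type u) [AddCommGroup X] [Module R X], gam a.toIdeal X = gam b.toIdeal X) (i : ℕ) :
    ∃ e : E.H a i ≃ₗ[R] E.H b i, ∀ n x, x ∈ E.Hcomp a i n ↔ e x ∈ E.Hcomp b i n := by
  have h1 : E.cocyc a i = E.cocyc b i := by
    rw [StarInjRes.cocyc, StarInjRes.cocyc, h]
  have h2 : E.cobdy a i = E.cobdy b i := by
    cases i with
    | zero => rfl
    | succ i => rw [StarInjRes.cobdy, StarInjRes.cobdy, h]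
  let e₁ : E.cocyc a i ≃ₗ[R] E.cocyc b i := LinearEquiv.ofEq _ _ h1
  let e : E.H a i ≃ₗ[R] E.H b i := Submodule.Quotient.equiv _ _ e₁ (by
    rw [h2]
    ext ⟨x, hx⟩
    constructor
    · rintro ⟨⟨y, hy⟩, hy', hxy⟩
      have : y = x := congrArg Subtype.val hxy
      subst this
      exact hy'
    · intro hx'
      exact ⟨⟨x, by rw [h1]; exact hx⟩, hx', rfl⟩)
  refine ⟨e, fun n x => ?_⟩
  constructor
  · rintro ⟨z, hz, rfl⟩
    exact ⟨e₁ z, hz, rfl⟩
  · rintro ⟨z, hz, hzx⟩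
    refine ⟨e₁.symm z, hz, e.injective ?_⟩
    rw [← hzx]
    obtain ⟨w, rfl⟩ := e₁.surjective z
    rw [LinearEquiv.symm_apply_apply]
    rfl

theorem gam_eq_of_radical {I J : Ideal R} (h : I.radical = J.radical) (X : Type u) [AddCommGroup X]
    [Module R X] : gam I X = gam J X := by
  have key : ∀ {I J : Ideal R}, I.radical = J.radical → gam I X ≤ gam J X := by
    intro I J h x hx
    obtain ⟨n, hn⟩ := hx
    have h1 : J ≤ I.radical := by rw [h]; exact Ideal.le_radical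
    obtain ⟨k, hk⟩ := Ideal.exists_pow_le_of_le_radical_of_fg h1 (IsNoetherian.noetherian J)
    refine ⟨k * n, fun r hr => hn r ?_⟩
    rw [pow_mul] at hr
    exact Ideal.pow_right_mono hk n hr
  exact le_antisymm (key h) (key h.symm)

theorem exists_equiv_of_radical (E : StarInjRes 𝒜 ℳ) (a b : HomogeneousIdeal 𝒜)
    (h : a.toIdeal.radical = b.toIdeal.radical) (i : ℕ) :
    ∃ e : E.H a i ≃ₗ[R] E.H b i, ∀ n x, x ∈ E.Hcomp a i n ↔ e x ∈ E.Hcomp b i n :=
  exists_equiv_of_gam_eq E a b (fun X _ _ => gam_eq_of_radical h X) i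

/-- pieces correspond under a graded isomorphism -/
noncomputable def compEquiv {X : Type u} [AddCommGroup X] [Module R X] {Y : Type u} [AddCommGroup Y]
    [Module R Y] (e : X ≃ₗ[R] Y) (P : Submodule (deg0 𝒜) X) (Q : Submodule (deg0 𝒜) Y)
    (h : ∀ x, x ∈ P ↔ e x ∈ Q) : P ≃ₗ[deg0 𝒜] Q where
  toFun x := ⟨e x, (h x).1 x.2⟩
  invFun y := ⟨e.symm y, (h _).2 (by rw [e.apply_symm_apply]; exact y.2)⟩
  left_inv x := Subtype.ext (e.symm_apply_apply _)
  right_inv y := Subtype.ext (e.apply_symm_apply _)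
  map_add' x y := Subtype.ext (map_add e _ _)
  map_smul' r x := Subtype.ext (map_smul e (r : R) (x : X))

theorem nonempty_Hcomp_equiv_of_radical (E : StarInjRes 𝒜 ℳ) (a b : HomogeneousIdeal 𝒜)
    (h : a.toIdeal.radical = b.toIdeal.radical) (i : ℕ) (n : ι) :
    Nonempty (E.Hcomp a i n ≃ₗ[deg0 𝒜] E.Hcomp b i n) := by
  obtain ⟨e, he⟩ := exists_equiv_of_radical E a b h i
  exact ⟨compEquiv e _ _ (he n)⟩

end General

section Comp

variable {ι : Type} [AddCommGroup ι] [DecidableEq ι]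
variable {R : Type u} [CommRing R] {σ : Type u} [SetLike σ R] [AddSubgroupClass σ R]
  {𝒜 : ι → σ} [GradedRing 𝒜]

/-- the map on pieces -/
def compMap (X Y : GMod.{u} 𝒜) (f : X.carrier →ₗ[R] Y.carrier) (t : ι)
    (hf : IsGrHomDeg X.gr Y.gr f t) (m n : ι) (h : m + t = n) :
    comp 𝒜 X.gr m →ₗ[deg0 𝒜] comp 𝒜 Y.gr n :=
  (f.restrictScalars (deg0 𝒜)).restrict (fun x hx => by
    have := hf m x hx
    rw [h] at this
    exact this)

theorem len_comp_add (X Y Z : GMod.{u} 𝒜) {f : X.carrier →ₗ[R] Y.carrier}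
    {g : Y.carrier →ₗ[R] Z.carrier} {t : ι} (hf : IsGrHomDeg X.gr Y.gr f t)
    (hg : IsGrHomDeg Y.gr Z.gr g 0) (hinj : Function.Injective f) (hex : Function.Exact f g)
    (hsurj : Function.Surjective g) (n : ι) (hY : IsFiniteLength (deg0 𝒜) (comp 𝒜 Y.gr n)) :
    len (deg0 𝒜) (comp 𝒜 Y.gr n) = len (deg0 𝒜) (comp 𝒜 X.gr (n - t))
      + len (deg0 𝒜) (comp 𝒜 Z.gr n) := by
  refine len_exact (compMap X Y f t hf (n - t) n (sub_add_cancel n t))
    (compMap Y Z g 0 hg n n (add_zero n)) ?_ ?_ ?_ hY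
  · intro x y h
    exact Subtype.ext (hinj (congrArg Subtype.val h))
  · rintro ⟨y, hy⟩
    obtain ⟨x, hx, hxy⟩ := K859.Van.exists_lift_deg (ℳ := Y.gr) (𝒩 := Z.gr) hg (i := n) (y := y)
      (by rw [add_zero]; exact hy) (hsurj y)
    exact ⟨⟨x, hx⟩, Subtype.ext hxy⟩
  · rintro ⟨y, hy⟩
    constructor
    · intro h
      have h4 := congrArg Subtype.val h
      obtain ⟨x, hx, hxy⟩ := K859.Van.exists_lift_deg (ℳ := X.gr) (𝒩 := Y.gr) hf (i := n - t)
        (y := y) (by rw [sub_add_cancel]; exact hy) ((hex y).1 h4)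
      exact ⟨⟨x, hx⟩, Subtype.ext hxy⟩
    · rintro ⟨x, hx⟩
      rw [← hx]
      exact Subtype.ext ((hex _).2 ⟨x, rfl⟩)

end Comp

section Killed

/-- a finite module killed by an ideal with Artinian quotient has finite length -/
theorem isFiniteLength_of_killed {S : Type u} [CommRing S] (J : Ideal S)
    (hJ : IsFiniteLength S (S ⧸ J)) (X : Type u) [AddCommGroup X] [Module S X] [Module.Finite S X]
    (hX : ∀ r ∈ J, ∀ x : X, r • x = 0) : IsFiniteLength S X := by
  classical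
  obtain ⟨n, f, hf⟩ := Module.Finite.exists_fin' S X
  obtain ⟨h1, h2⟩ := isFiniteLength_iff_isNoetherian_isArtinian.1 hJ
  have h3 : IsFiniteLength S (Fin n → S ⧸ J) :=
    isFiniteLength_iff_isNoetherian_isArtinian.2 ⟨inferInstance, inferInstance⟩
  let q : ∀ b : Fin n, (S ⧸ J) →ₗ[S] X := fun b =>
    Submodule.liftQ J (LinearMap.toSpanSingleton S X (f (Pi.single b 1))) (fun r hr =>
      hX r hr _)
  refine h3.of_surjective (f := LinearMap.lsum S (fun _ : Fin n => S ⧸ J) S q) fun x => ?_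
  obtain ⟨v, rfl⟩ := hf x
  refine ⟨fun b => Submodule.Quotient.mk (v b), ?_⟩
  rw [LinearMap.lsum_apply, LinearMap.sum_apply]
  conv_rhs => rw [← Finset.univ_sum_single v, map_sum]
  refine Finset.sum_congr rfl fun b _ => ?_
  change v b • f (Pi.single b 1) = _
  rw [← map_smul, ← Pi.single_smul, smul_eq_mul, mul_one]

end Killed

section Main

variable {R : Type u} [CommRing R] [IsNoetherianRing R] {σ : Type u} [SetLike σ R]
  [AddSubgroupClass σ R] {𝒜 : ℤ → σ} [GradedRing 𝒜] (a : HomogeneousIdeal 𝒜)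

theorem smul_H_eq_zero {X : GMod.{u} 𝒜} (E : StarInjRes 𝒜 X.gr) (i : ℕ) {r : R} {t : ℤ}
    (hr : r ∈ 𝒜 t) (h : ∀ x : X.carrier, r • x = 0) (y : E.H a i) : r • y = 0 := by
  have hf : IsGrHomDeg X.gr X.gr (r • (LinearMap.id : X.carrier →ₗ[R] X.carrier)) t :=
    isGrHomDeg_smul_id hr
  rw [← Hmap_smul_id E a i hr hf y]
  have h0 : r • (LinearMap.id : X.carrier →ₗ[R] X.carrier) = 0 := LinearMap.ext fun x => h x
  have hf0 : IsGrHomDeg X.gr X.gr (0 : X.carrier →ₗ[R] X.carrier) t := h0 ▸ hf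
  rw [K859.Van.Hmap_congr E E a i h0 hf hf0, K859.Van.Hmap_zero]

variable (ha : a.toIdeal = Ideal.span (⋃ n ∈ Set.Ioi (0 : ℤ), (𝒜 n : Set R)))
  (J : Ideal (deg0 𝒜)) (hJ : IsFiniteLength (deg0 𝒜) (deg0 𝒜 ⧸ J))

include hJ in
theorem fin_comp (X : GMod.{u} 𝒜) (hX : Module.Finite R X.carrier)
    (hk : ∀ r ∈ J, ∀ x : X.carrier, (r : R) • x = 0) (n : ℤ) :
    IsFiniteLength (deg0 𝒜) (comp 𝒜 X.gr n) := by
  have := K759.Piece.finite_comp 𝒜 X.gr n
  exact isFiniteLength_of_killed J hJ _ fun r hr x => Subtype.ext (hk r hr x)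

include ha hJ in
theorem fin_Hcomp (X : GMod.{u} 𝒜) (hX : Module.Finite R X.carrier)
    (hk : ∀ r ∈ J, ∀ x : X.carrier, (r : R) • x = 0) (E : StarInjRes 𝒜 X.gr) (i : ℕ) (n : ℤ) :
    IsFiniteLength (deg0 𝒜) (E.Hcomp a i n) := by
  have := (K859.SerreG.stmt a ha i X hX E).2 n
  exact isFiniteLength_of_killed J hJ _ fun r hr x =>
    Subtype.ext (smul_H_eq_zero a E i (t := 0) r.2 (hk r hr) x)

/-- the formula for torsion modules -/
theorem formula_of_torsion (X : GMod.{u} 𝒜) (hX : gam a.toIdeal X.carrier = ⊤)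
    (E : StarInjRes 𝒜 X.gr) (B : ℕ) (n : ℤ) :
    len (deg0 𝒜) (comp 𝒜 X.gr n) = chi E a B n := by
  rw [chi, Finset.sum_range_succ']
  rw [Finset.sum_eq_zero, zero_add, pow_zero, one_mul]
  · refine len_congr ?_
    let e : comp 𝒜 X.gr n → gam a.toIdeal X.carrier := fun x => ⟨x, by rw [hX]; trivial⟩
    exact
    { toFun := fun x => ⟨H0equiv E a (e x), (H0equiv_mem_iff E a _ n).2 x.2⟩
      map_add' := fun x y => Subtype.ext (map_add (H0equiv E a) (e x) (e y))
      map_smul' := fun r x => Subtype.ext (map_smul (H0equiv E a) (r : R) (e x))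
      invFun := fun y => ⟨(H0equiv E a).symm y, (H0equiv_mem_iff E a _ n).1 (by
        rw [LinearEquiv.apply_symm_apply]; exact y.2)⟩
      left_inv := fun x => Subtype.ext (by
        change (((H0equiv E a).symm (H0equiv E a (e x)) : gam a.toIdeal X.carrier) : X.carrier) = x
        rw [LinearEquiv.symm_apply_apply])
      right_inv := fun y => Subtype.ext (by
        change H0equiv E a (e _) = y
        exact (H0equiv E a).apply_symm_apply y.1) }
  · intro i _
    have := H_subsingleton_of_torsion E a (i := i + 1) hX (Nat.succ_pos i)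
    rw [len_zero, mul_zero]

include ha in
theorem chi_eventually (X : GMod.{u} 𝒜) (hX : Module.Finite R X.carrier) (E : StarInjRes 𝒜 X.gr)
    (B : ℕ) : ∃ N : ℤ, ∀ n, N ≤ n → chi E a B n = 0 := by
  have h := fun i => (K859.SerreG.stmt a ha i X hX E).1
  choose r hr using h
  refine ⟨∑ i ∈ Finset.range (B + 1), |r i|, fun n hn => Finset.sum_eq_zero fun i hi => ?_⟩
  have h1 := Finset.single_le_sum (f := fun i => |r i|) (fun i _ => abs_nonneg _) hi
  have h2 := hr i n (by have := le_abs_self (r i); omega)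
  have h3 : Subsingleton (E.Hcomp a i n) := by rw [h2]; infer_instance
  rw [len_zero, mul_zero]

include ha hJ in
/-- the Serre-Grothendieck formula -/
theorem formula (B : ℕ)
    (hB : ∀ (X : GMod.{u} 𝒜), Module.Finite R X.carrier → ∀ (E : StarInjRes 𝒜 X.gr) (i : ℕ),
      B < i → Subsingleton (E.H a i)) (K : Ideal R) :
    ∀ (X : GMod.{u} 𝒜) (_ : Module.Finite R X.carrier)
    (_ : ∀ r ∈ K, ∀ x : X.carrier, r • x = 0)
    (_ : ∀ r ∈ J, ∀ x : X.carrier, (r : R) • x = 0) (E : StarInjRes 𝒜 X.gr) (P : Polynomial ℚ)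
    (_ : ∃ N : ℤ, ∀ n : ℤ, N ≤ n → P.eval (n : ℚ) = len (deg0 𝒜) (comp 𝒜 X.gr n)) (n : ℤ),
    len (deg0 𝒜) (comp 𝒜 X.gr n) - P.eval (n : ℚ) = chi E a B n := by
  induction K using WellFoundedGT.induction with
  | ind K ih =>
  intro X hX hK hk E P hP n
  -- a module all of whose pieces vanish in large degrees has zero polynomial
  have hzero : ∀ (Y : GMod.{u} 𝒜) (P : Polynomial ℚ)
      (_ : ∃ N : ℤ, ∀ n : ℤ, N ≤ n → P.eval (n : ℚ) = len (deg0 𝒜) (comp 𝒜 Y.gr n))
      (_ : ∃ N : ℤ, ∀ n : ℤ, N ≤ n → ∀ x ∈ Y.gr n, x = 0), P = 0 := by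
    intro Y P ⟨N, hN⟩ ⟨N', hN'⟩
    by_contra hP0
    have h1 : ∀ k : ℕ, P.IsRoot ((max N N' + k : ℤ) : ℚ) := by
      intro k
      rw [Polynomial.IsRoot, hN _ (by omega)]
      have : Subsingleton (comp 𝒜 Y.gr (max N N' + k)) :=
        ⟨fun x y => Subtype.ext ((hN' _ (by omega) _ x.2).trans (hN' _ (by omega) _ y.2).symm)⟩
      exact len_zero
    have h2 : (Set.range fun k : ℕ => ((max N N' + k : ℤ) : ℚ)).Infinite := by
      refine Set.infinite_range_of_injective fun k l hkl => ?_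
      have : (max N N' + k : ℤ) = max N N' + l := by exact_mod_cast hkl
      omega
    refine h2 ((P.rootSet_finite ℚ).subset ?_)
    rintro _ ⟨k, rfl⟩
    rw [Polynomial.mem_rootSet]
    exact ⟨hP0, by simpa [Polynomial.IsRoot] using h1 k⟩
  by_cases htop : gam a.toIdeal X.carrier = ⊤
  · have := hzero X P hP (K759.Pos.exists_upper (𝒜 := 𝒜) X.gr a.toIdeal ha htop)
    rw [this, Polynomial.eval_zero, sub_zero]
    exact formula_of_torsion a X htop E B n
  have hΓ : (gam a.toIdeal X.carrier).IsHomogeneous X.gr := K763.GamHom.isHomogeneous_gam X.gr a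
  let G : GMod.{u} 𝒜 := sub 𝒜 X.gr (gam a.toIdeal X.carrier) hΓ
  let Y : GMod.{u} 𝒜 := quo 𝒜 X.gr (gam a.toIdeal X.carrier) hΓ
  have hY : Module.Finite R Y.carrier :=
    Module.Finite.of_surjective (gam a.toIdeal X.carrier).mkQ (Submodule.mkQ_surjective _)
  have hG : Module.Finite R G.carrier := by
    have : IsNoetherian R X.carrier := isNoetherian_of_isNoetherianRing_of_finite R _
    exact (inferInstance : Module.Finite R (gam a.toIdeal X.carrier))
  have hYt : gam a.toIdeal Y.carrier = ⊥ := K763.GamHom.gam_quotient_gam a.toIdeal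
  have hGt : gam a.toIdeal G.carrier = ⊤ := by
    rw [eq_top_iff]
    rintro ⟨x, n, hn⟩ -
    exact ⟨n, fun r hr => Subtype.ext (hn r hr)⟩
  have hYk : ∀ r : R, (∀ x : X.carrier, r • x = 0) → ∀ x : Y.carrier, r • x = 0 := by
    intro r hr x
    obtain ⟨x, rfl⟩ := (gam a.toIdeal X.carrier).mkQ_surjective x
    exact ((map_smul (gam a.toIdeal X.carrier).mkQ r x).symm.trans
      (congrArg _ (hr x))).trans (map_zero _)
  have hGk : ∀ r : R, (∀ x : X.carrier, r • x = 0) → ∀ x : G.carrier, r • x = 0 :=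
    fun r hr x => Subtype.ext (hr _)
  obtain ⟨F⟩ := nonempty_res 𝒜 Y.gr
  obtain ⟨D⟩ := nonempty_res 𝒜 G.gr
  have hf : IsGrHomDeg G.gr X.gr (gam a.toIdeal X.carrier).subtype 0 := fun g m hm => by
    rw [add_zero]; exact hm
  have hg : IsGrHomDeg X.gr Y.gr (gam a.toIdeal X.carrier).mkQ 0 := fun g m hm => by
    rw [add_zero]; exact ⟨m, hm, rfl⟩
  have hD : Subsingleton (D.H a (B + 1)) := hB G hG D (B + 1) (Nat.lt_succ_self B)
  have e1 : ∀ n, chi E a B n = chi D a B n + chi F a B n := by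
    intro n
    have := chi_add D E F a hf hg (Submodule.injective_subtype _)
      (LinearMap.exact_subtype_mkQ _) (Submodule.mkQ_surjective _) n B hD
      (fun i => fin_Hcomp a ha J hJ G hG (fun r hr => hGk _ (hk r hr)) D i _)
      (fun i => fin_Hcomp a ha J hJ X hX hk E i _)
      (fun i => fin_Hcomp a ha J hJ Y hY (fun r hr => hYk _ (hk r hr)) F i _)
    rwa [sub_zero] at this
  have e2 : ∀ n, len (deg0 𝒜) (comp 𝒜 X.gr n)
      = len (deg0 𝒜) (comp 𝒜 G.gr n) + len (deg0 𝒜) (comp 𝒜 Y.gr n) := by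
    intro n
    have := len_comp_add G X Y hf hg (Submodule.injective_subtype _)
      (LinearMap.exact_subtype_mkQ _) (Submodule.mkQ_surjective _) n
      (fin_comp J hJ X hX hk n)
    rwa [sub_zero] at this
  rw [e1, e2, ← formula_of_torsion a G hGt D B n, add_sub_assoc]
  congr 1
  -- now the torsion free module `Y`
  obtain ⟨x, t, ht, hx, hreg⟩ := K759.Avoid.exists_regular 𝒜 (M := Y.carrier) (by
    intro m hm
    have : m ∈ gam a.toIdeal Y.carrier := by
      refine ⟨1, fun r hr => ?_⟩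
      rw [pow_one, ha] at hr
      induction hr using Submodule.span_induction with
      | zero => rw [zero_smul]
      | mem r hr =>
        simp only [Set.mem_iUnion, Set.mem_Ioi] at hr
        obtain ⟨n, hn, hr⟩ := hr
        exact hm n r hn hr
      | add r s _ _ hr hs => rw [add_smul, hr, hs, add_zero]
      | smul r s _ hs => rw [smul_eq_mul, mul_smul, hs, smul_zero]
    rw [hYt] at this
    exact this)
  let f : Y.carrier →ₗ[R] Y.carrier := x • LinearMap.id
  have hf' : IsGrHomDeg Y.gr Y.gr f t := isGrHomDeg_smul_id hx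
  have hR : (LinearMap.range f).IsHomogeneous Y.gr := isHomogeneous_rangeDeg hf'
  let Q : GMod.{u} 𝒜 := quo 𝒜 Y.gr (LinearMap.range f) hR
  have hQ : Module.Finite R Q.carrier :=
    Module.Finite.of_surjective (LinearMap.range f).mkQ (Submodule.mkQ_surjective _)
  obtain ⟨F'⟩ := nonempty_res 𝒜 Q.gr
  have hg' : IsGrHomDeg Y.gr Q.gr (LinearMap.range f).mkQ 0 := fun g m hm => by
    rw [add_zero]; exact ⟨m, hm, rfl⟩
  have hex : Function.Exact f (LinearMap.range f).mkQ := by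
    rw [LinearMap.exact_iff, Submodule.ker_mkQ]
  have hinj : Function.Injective f := by
    rw [injective_iff_map_eq_zero]
    exact hreg
  have hQk : ∀ r : R, (∀ x : Y.carrier, r • x = 0) → ∀ x : Q.carrier, r • x = 0 := by
    intro r hr x
    obtain ⟨x, rfl⟩ := (LinearMap.range f).mkQ_surjective x
    exact ((map_smul (LinearMap.range f).mkQ r x).symm.trans
      (congrArg _ (hr x))).trans (map_zero _)
  have hQx : ∀ y : Q.carrier, x • y = 0 := by
    intro y
    obtain ⟨y, rfl⟩ := (LinearMap.range f).mkQ_surjective y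
    exact (map_smul (LinearMap.range f).mkQ x y).symm.trans
      ((Submodule.Quotient.mk_eq_zero _).2 ⟨y, rfl⟩)
  have e3 : ∀ n, chi F a B n = chi F a B (n - t) + chi F' a B n := fun n =>
    chi_add F F F' a hf' hg' hinj hex (Submodule.mkQ_surjective _) n B
      (hB Y hY F (B + 1) (Nat.lt_succ_self B))
      (fun i => fin_Hcomp a ha J hJ Y hY (fun r hr => hYk _ (hk r hr)) F i _)
      (fun i => fin_Hcomp a ha J hJ Y hY (fun r hr => hYk _ (hk r hr)) F i _)
      (fun i => fin_Hcomp a ha J hJ Q hQ (fun r hr => hQk _ (hYk _ (hk r hr))) F' i _)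
  have e4 : ∀ n, len (deg0 𝒜) (comp 𝒜 Y.gr n)
      = len (deg0 𝒜) (comp 𝒜 Y.gr (n - t)) + len (deg0 𝒜) (comp 𝒜 Q.gr n) := fun n =>
    len_comp_add Y Y Q hf' hg' hinj hex (Submodule.mkQ_surjective _) n
      (fin_comp J hJ Y hY (fun r hr => hYk _ (hk r hr)) n)
  -- the polynomial of `Y`
  obtain ⟨N, hN⟩ := hP
  obtain ⟨N', hN'⟩ := K759.Pos.exists_upper (𝒜 := 𝒜) G.gr a.toIdeal ha hGt
  have hPY : ∀ n, max N N' ≤ n → P.eval (n : ℚ) = len (deg0 𝒜) (comp 𝒜 Y.gr n) := by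
    intro n hn
    rw [hN n (by omega), e2 n]
    have : Subsingleton (comp 𝒜 G.gr n) :=
      ⟨fun x y => Subtype.ext ((hN' _ (by omega) _ x.2).trans (hN' _ (by omega) _ y.2).symm)⟩
    rw [len_zero (X := comp 𝒜 G.gr n), zero_add]
  let P' : Polynomial ℚ := P - P.comp (Polynomial.X - Polynomial.C (t : ℚ))
  have hP' : ∀ n : ℤ, P'.eval (n : ℚ) = P.eval (n : ℚ) - P.eval ((n - t : ℤ) : ℚ) := by
    intro n
    simp [P', Polynomial.eval_comp]
  have e5 : ∀ n, len (deg0 𝒜) (comp 𝒜 Q.gr n) - P'.eval (n : ℚ) = chi F' a B n := by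
    have hle : K < K ⊔ Ideal.span {x} := by
      refine lt_of_le_of_ne le_sup_left fun h => ?_
      have hxK : x ∈ K := by
        rw [h]
        exact Ideal.mem_sup_right (Ideal.mem_span_singleton_self x)
      apply htop
      rw [eq_top_iff]
      rintro y -
      have h1 : x • (gam a.toIdeal X.carrier).mkQ y = 0 := by
        rw [← map_smul, hK x hxK, map_zero]
      exact (Submodule.Quotient.mk_eq_zero _).1 (hreg _ h1)
    refine ih _ hle Q hQ ?_ (fun r hr => hQk _ (hYk _ (hk r hr))) F' P'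
      ⟨max N N' + t, fun n hn => ?_⟩
    · intro r hr y
      obtain ⟨s, hs, z, hz, rfl⟩ := Submodule.mem_sup.1 hr
      obtain ⟨w, rfl⟩ := Ideal.mem_span_singleton'.1 hz
      rw [add_smul, hQk s (hYk s (hK s hs)) y, mul_smul, hQx, smul_zero, add_zero]
    · rw [hP', hPY n (by omega), hPY (n - t) (by omega), e4 n]
      ring
  obtain ⟨N'', hN''⟩ := chi_eventually a ha Y hY F B
  have key : ∀ (k : ℕ) (n : ℤ), max (max N N') N'' - k ≤ n →
      len (deg0 𝒜) (comp 𝒜 Y.gr n) - P.eval (n : ℚ) = chi F a B n := by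
    intro k
    induction k with
    | zero =>
      intro n hn
      rw [hPY n (by omega), hN'' n (by omega), sub_self]
    | succ k ihk =>
      intro n hn
      have h1 := ihk (n + t) (by push_cast at hn; omega)
      have h3 := e3 (n + t)
      have h4 := e4 (n + t)
      have h5 := e5 (n + t)
      rw [hP'] at h5
      rw [add_sub_cancel_right] at h3 h4 h5
      linarith
  exact key (max (max N N') N'' - n).toNat n (by omega)

end Main

end K859.HilbLC
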