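import Mathlib.Algebra.Module.BigOperators
import Mathlib.Algebra.BigOperators.Group.Finset.Sigma
import Mathlib.RingTheory.Ideal.Operations
import Mathlib.Data.Fintype.Card
import Mathlib.Tactic.Ring
import Mathlib.Tactic.LinearCombination

/-!
# The Koszul complex on functions on finite subsets

For elements `x 0, …, x (n-1)` of a commutative ring and a module `M`, the Koszul complex with
coefficients in `M` is realised on functions `Finset (Fin n) → M`.
-/

set_option autoImplicit false
universe u v

namespace K859.Kos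

variable {R : Type u} [CommRing R] {n : ℕ}

/-- the sign attached to adding `j` to the subset `I` -/
def eps (R : Type u) [CommRing R] {n : ℕ} (j : Fin n) (I : Finset (Fin n)) : R :=
  (-1) ^ ((I.filter (· < j)).card)

theorem eps_mul_self (j : Fin n) (I : Finset (Fin n)) : eps R j I * eps R j I = 1 := by
  rw [eps, ← pow_add, ← two_mul, pow_mul]; simp

theorem eps_insert_lt {j l : Fin n} (h : j < l) {I : Finset (Fin n)} (hj : j ∉ I) :
    eps R l (insert j I) = - eps R l I := by
  rw [eps, eps, Finset.filter_insert, if_pos h, Finset.card_insert_of_notMem, pow_succ]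
  · ring
  · intro h'; exact hj (Finset.mem_filter.1 h').1

theorem eps_insert_not_lt {j l : Fin n} (h : ¬ j < l) (I : Finset (Fin n)) :
    eps R l (insert j I) = eps R l I := by
  rw [eps, eps, Finset.filter_insert, if_neg h]

theorem eps_key {j l : Fin n} (h : j ≠ l) {I : Finset (Fin n)} (hj : j ∉ I) (hl : l ∉ I) :
    eps R j I * eps R l (insert j I) + eps R l I * eps R j (insert l I) = 0 := by
  rcases lt_or_gt_of_ne h with h' | h'
  · rw [eps_insert_lt h' hj, eps_insert_not_lt (not_lt.2 h'.le)]; ring
  · rw [eps_insert_lt h' hl, eps_insert_not_lt (not_lt.2 h'.le)]; ring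

theorem eps_key2 {j l : Fin n} (h : j ≠ l) {I : Finset (Fin n)} (hj : j ∉ I) (hl : l ∉ I) :
    eps R j (insert l I) * eps R l (insert j I) + eps R l I * eps R j I = 0 := by
  rcases lt_or_gt_of_ne h with h' | h'
  · rw [eps_insert_lt h' hj, eps_insert_not_lt (not_lt.2 h'.le)]; ring
  · rw [eps_insert_lt h' hl, eps_insert_not_lt (not_lt.2 h'.le)]; ring

variable (x : Fin n → R) {M : Type v} [AddCommGroup M] [Module R M]

/-- the Koszul differential -/
def D : (Finset (Fin n) → M) →ₗ[R] (Finset (Fin n) → M) where
  toFun F I := ∑ j ∈ Iᶜ, (eps R j I * x j) • F (insert j I)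
  map_add' F G := by
    funext I
    simp only [Pi.add_apply, smul_add, Finset.sum_add_distrib]
  map_smul' r F := by
    funext I
    simp only [Pi.smul_apply, RingHom.id_apply, Finset.smul_sum]
    exact Finset.sum_congr rfl fun j _ => smul_comm _ _ _

theorem D_apply (F : Finset (Fin n) → M) (I : Finset (Fin n)) :
    D x F I = ∑ j ∈ Iᶜ, (eps R j I * x j) • F (insert j I) := rfl

/-- exterior multiplication by the `l`-th basis vector -/
def ext (l : Fin n) : (Finset (Fin n) → M) →ₗ[R] (Finset (Fin n) → M) where
  toFun F I := if l ∈ I then eps R l I • F (I.erase l) else 0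
  map_add' F G := by
    funext I
    simp only [Pi.add_apply]
    split_ifs <;> simp
  map_smul' r F := by
    funext I
    simp only [Pi.smul_apply, RingHom.id_apply]
    split_ifs
    · exact smul_comm _ _ _
    · simp

theorem ext_apply (l : Fin n) (F : Finset (Fin n) → M) (I : Finset (Fin n)) :
    ext (R := R) l F I = if l ∈ I then eps R l I • F (I.erase l) else 0 := rfl

theorem D_comp_D (F : Finset (Fin n) → M) : D x (D x F) = 0 := by
  funext I
  rw [D_apply]
  simp only [D_apply, Finset.smul_sum, Pi.zero_apply]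
  rw [Finset.sum_sigma']
  refine Finset.sum_involution (fun p _ => ⟨p.2, p.1⟩) ?_ ?_ ?_ ?_
  · rintro ⟨j, l⟩ hp
    simp only [Finset.mem_sigma, Finset.mem_compl, Finset.mem_insert, not_or] at hp
    obtain ⟨hj, hlj, hl⟩ := hp
    simp only [smul_smul]
    rw [Finset.insert_comm j l I, ← add_smul]
    have := eps_key (R := R) (Ne.symm hlj) hj hl
    rw [show eps R j I * x j * (eps R l (insert j I) * x l)
      + eps R l I * x l * (eps R j (insert l I) * x j)
      = (eps R j I * eps R l (insert j I) + eps R l I * eps R j (insert l I)) * (x j * x l) by ring,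
      this, zero_mul, zero_smul]
  · rintro ⟨j, l⟩ hp _ h
    simp only [Finset.mem_sigma, Finset.mem_compl, Finset.mem_insert, not_or] at hp
    simp only [Sigma.mk.injEq, heq_eq_eq] at h
    exact hp.2.1 h.1
  · rintro ⟨j, l⟩ hp
    simp only [Finset.mem_sigma, Finset.mem_compl, Finset.mem_insert, not_or] at hp ⊢
    exact ⟨hp.2.2, Ne.symm hp.2.1, hp.1⟩
  · rintro ⟨j, l⟩ _; rfl

/-- the homotopy: multiplication by `x l` is null homotopic -/
theorem homotopy (l : Fin n) (F : Finset (Fin n) → M) :
    D x (ext (R := R) l F) + ext (R := R) l (D x F) = x l • F := by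
  funext I
  rw [Pi.add_apply, D_apply, ext_apply, Pi.smul_apply]
  by_cases hl : l ∈ I
  · rw [if_pos hl, D_apply]
    have hc : (I.erase l)ᶜ = insert l Iᶜ := by
      ext j
      simp only [Finset.mem_compl, Finset.mem_erase, Finset.mem_insert, not_and_or, not_not]
    have hl' : l ∉ Iᶜ := by simp [hl]
    rw [hc, Finset.sum_insert hl', smul_add, Finset.insert_erase hl, ← add_assoc,
      add_comm (∑ j ∈ Iᶜ, _), add_assoc]
    have h1 : eps R l I • ((eps R l (I.erase l) * x l) • F I) = x l • F I := by
      have : eps R l (I.erase l) = eps R l I := by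
        conv_rhs => rw [← Finset.insert_erase hl]
        rw [eps_insert_not_lt (lt_irrefl l)]
      rw [this, smul_smul, ← mul_assoc, eps_mul_self, one_mul]
    rw [h1]
    convert add_zero _
    rw [Finset.smul_sum, ← Finset.sum_add_distrib]
    refine Finset.sum_eq_zero fun j hj => ?_
    rw [Finset.mem_compl] at hj
    have hjl : j ≠ l := fun h => hj (h ▸ hl)
    rw [ext_apply, if_pos (Finset.mem_insert_of_mem hl), smul_smul, smul_smul]
    have h2 : (insert j I).erase l = insert j (I.erase l) := Finset.erase_insert_of_ne hjl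
    rw [h2, ← add_smul]
    have h3 := eps_key2 (R := R) hjl (I := I.erase l) (fun h => hj (Finset.mem_of_mem_erase h))
      (Finset.notMem_erase l I)
    have h4 : eps R l I = eps R l (I.erase l) := by
      conv_lhs => rw [← Finset.insert_erase hl]
      rw [eps_insert_not_lt (lt_irrefl l)]
    have h5 : eps R l (insert j I) = eps R l (insert j (I.erase l)) := by
      conv_lhs => rw [← Finset.insert_erase hl, Finset.insert_comm]
      rw [eps_insert_not_lt (lt_irrefl l)]
    rw [Finset.insert_erase hl] at h3
    rw [h4, h5]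
    rw [show eps R j I * x j * eps R l (insert j (I.erase l))
      + eps R l (I.erase l) * (eps R j (I.erase l) * x j)
      = (eps R j I * eps R l (insert j (I.erase l)) + eps R l (I.erase l) * eps R j (I.erase l))
        * x j by ring, h3, zero_mul, zero_smul]
  · rw [if_neg hl, add_zero, Finset.sum_eq_single l]
    · rw [ext_apply, if_pos (Finset.mem_insert_self l I), Finset.erase_insert hl, smul_smul,
        eps_insert_not_lt (lt_irrefl l)]
      rw [show eps R l I * x l * eps R l I = (eps R l I * eps R l I) * x l by ring, eps_mul_self,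
        one_mul]
    · intro j hj hjl
      rw [ext_apply, if_neg, smul_zero]
      rw [Finset.mem_insert, not_or]
      exact ⟨Ne.symm hjl, hl⟩
    · intro h; exact absurd (Finset.mem_compl.2 hl) h

variable (R M n) in
/-- the functions supported on subsets of cardinality `p` -/
def K (p : ℕ) : Submodule R (Finset (Fin n) → M) where
  carrier := {F | ∀ I, I.card ≠ p → F I = 0}
  zero_mem' _ _ := rfl
  add_mem' hF hG I hI := by rw [Pi.add_apply, hF I hI, hG I hI, add_zero]
  smul_mem' r F hF I hI := by rw [Pi.smul_apply, hF I hI, smul_zero]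

theorem mem_K {p : ℕ} {F : Finset (Fin n) → M} : F ∈ K R n M p ↔ ∀ I, I.card ≠ p → F I = 0 :=
  Iff.rfl

theorem D_mem_K {p : ℕ} {F : Finset (Fin n) → M} (hF : F ∈ K R n M (p + 1)) : D x F ∈ K R n M p := by
  intro I hI
  rw [D_apply]
  refine Finset.sum_eq_zero fun j hj => ?_
  rw [hF, smul_zero]
  rw [Finset.card_insert_of_notMem (Finset.mem_compl.1 hj)]
  omega

theorem ext_mem_K (l : Fin n) {p : ℕ} {F : Finset (Fin n) → M} (hF : F ∈ K R n M p) :
    ext (R := R) l F ∈ K R n M (p + 1) := by
  intro I hI
  rw [ext_apply]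
  split_ifs with hl
  · rw [hF, smul_zero]
    rw [Finset.card_erase_of_mem hl]
    have : 0 < I.card := Finset.card_pos.2 ⟨l, hl⟩
    omega
  · rfl

/-- the cycles of degree `p` -/
def Z (p : ℕ) : Submodule R (Finset (Fin n) → M) := K R n M p ⊓ LinearMap.ker (D x)

/-- the boundaries of degree `p` -/
def B (p : ℕ) : Submodule R (Finset (Fin n) → M) := (K R n M (p + 1)).map (D x)

variable (M) in
theorem B_le_Z (p : ℕ) : B x (M := M) p ≤ Z x p := by
  rintro _ ⟨F, hF, rfl⟩
  exact ⟨D_mem_K x hF, D_comp_D x F⟩

theorem smul_mem_B {p : ℕ} {F : Finset (Fin n) → M} (hF : F ∈ Z x p) {r : R}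
    (hr : r ∈ Ideal.span (Set.range x)) : r • F ∈ B x p := by
  induction hr using Submodule.span_induction with
  | mem y hy =>
    obtain ⟨l, rfl⟩ := hy
    have := homotopy x l F
    rw [LinearMap.mem_ker.1 hF.2, map_zero, add_zero] at this
    rw [← this]
    exact ⟨_, ext_mem_K l hF.1, rfl⟩
  | zero => rw [zero_smul]; exact Submodule.zero_mem _
  | add a b _ _ ha hb => rw [add_smul]; exact Submodule.add_mem _ ha hb
  | smul a b _ hb => rw [smul_assoc]; exact Submodule.smul_mem _ _ hb

theorem K_eq_bot {p : ℕ} (hp : n < p) : K R n M p = ⊥ := by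
  rw [eq_bot_iff]
  intro F hF
  rw [Submodule.mem_bot]
  funext I
  refine hF I ?_
  have := Finset.card_le_univ I
  rw [Fintype.card_fin] at this
  omega

theorem B_eq_bot {p : ℕ} (hp : n ≤ p) : B x (M := M) p = ⊥ := by
  rw [B, K_eq_bot (by omega), Submodule.map_bot]

/-- boundaries of degree zero -/
theorem D_apply_empty (F : Finset (Fin n) → M) : D x F ∅ = ∑ j, x j • F {j} := by
  rw [D_apply, Finset.compl_empty]
  refine Finset.sum_congr rfl fun j _ => ?_
  rw [eps, Finset.filter_empty, Finset.card_empty, pow_zero, one_mul]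
  rfl

end K859.Kos
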