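import Groth.Agent.GrLC.K859.Pow
import Groth.Agent.GrLC.K859.Kos
import Groth.Agent.GrLC.K859.Van

/-!
# Diagonal vanishing of graded local cohomology via the Koszul complex

`x 0, …, x (n-1)` homogeneous of the same degree `δ`, generating `a` up to nothing: `a = (x)`.
-/

set_option autoImplicit false
set_option linter.unusedSectionVars false
universe u

open GrLC DirectSum K759.Gr K759.GrObj K859.Van K859.Pow K859.Kos

namespace K859.KosVan

variable {ι : Type} [AddCommGroup ι] [DecidableEq ι]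
variable {R : Type u} [CommRing R] {σ : Type u} [SetLike σ R] [AddSubgroupClass σ R]
variable {𝒜 : ι → σ} [GradedRing 𝒜]

section step

variable {T : Type u} [AddCommGroup T] [Module R T] {τ : Type u} [SetLike τ T] [AddSubgroupClass τ T]
  (𝒯 : ι → τ) [DirectSum.Decomposition 𝒯] [SetLike.GradedSMul 𝒜 𝒯]

/-- vanishing of a piece of the local cohomology of a homogeneous submodule -/
def VanS (a : HomogeneousIdeal 𝒜) (P : Submodule R T) (hP : P.IsHomogeneous 𝒯) (i : ℕ) (e : ι) :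
    Prop :=
  letI := subDec 𝒯 P hP
  Van a (subGr 𝒯 P) i e

/-- one step of the telescoping argument -/
theorem step [IsNoetherianRing R] {a : HomogeneousIdeal 𝒜} (P B : Submodule R T)
    (hP : P.IsHomogeneous 𝒯) (hB : B.IsHomogeneous 𝒯) (D : T →ₗ[R] T) (hD : IsGrHom 𝒯 𝒯 D)
    (hBZ : B ≤ P ⊓ LinearMap.ker D)
    (htors : ∀ F ∈ P ⊓ LinearMap.ker D, ∃ m : ℕ, ∀ r ∈ a.toIdeal ^ m, r • F ∈ B)
    {j : ℕ} {e : ι} (h1 : VanS 𝒯 a P hP j e) (h2 : VanS 𝒯 a B hB (j + 1) e) :
    VanS 𝒯 a (P.map D) (isHomogeneous_map hD hP) j e := by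
  have hZ : (P ⊓ LinearMap.ker D).IsHomogeneous 𝒯 :=
    isHomogeneous_inf 𝒯 hP (isHomogeneous_ker hD)
  set Z := P ⊓ LinearMap.ker D with hZdef
  let dZ := subDec 𝒯 Z hZ
  let dB := subDec 𝒯 B hB
  let dP := subDec 𝒯 P hP
  let dD := subDec 𝒯 (P.map D) (isHomogeneous_map hD hP)
  have hBc : (B.comap Z.subtype).IsHomogeneous (subGr 𝒯 Z) :=
    isHomogeneous_comap (ℳ := subGr 𝒯 Z) (𝒩 := 𝒯) (isGrHom_subtype 𝒯 Z) hB
  let dQ := quoDec (subGr 𝒯 Z) (B.comap Z.subtype) hBc
  have hQ : gam a.toIdeal (Z ⧸ (B.comap Z.subtype)) = ⊤ := by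
    rw [eq_top_iff]
    rintro y -
    obtain ⟨z, rfl⟩ := (B.comap Z.subtype).mkQ_surjective y
    obtain ⟨m, hm⟩ := htors z.1 z.2
    refine ⟨m, fun r hr => ?_⟩
    rw [← map_smul]
    exact (Submodule.Quotient.mk_eq_zero _).2 (hm r hr)
  have hVZ : Van a (subGr 𝒯 Z) (j + 1) e := by
    refine van_mid₀ (ℳ := subGr 𝒯 B) (𝒩 := subGr 𝒯 Z)
      (𝒬 := quoGr (subGr 𝒯 Z) (B.comap Z.subtype))
      (f := Submodule.inclusion hBZ) (g := (B.comap Z.subtype).mkQ) (fun _ _ h => h)
      (isGrHom_mkQ (subGr 𝒯 Z) (B.comap Z.subtype)) (Submodule.inclusion_injective hBZ) ?_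
      (Submodule.mkQ_surjective _) h2 (van_of_torsion hQ (Nat.succ_pos j) e)
    intro y
    constructor
    · intro hy
      have : (y : T) ∈ B := (Submodule.Quotient.mk_eq_zero (B.comap Z.subtype)).1 hy
      exact ⟨⟨y, this⟩, rfl⟩
    · rintro ⟨b, rfl⟩
      exact (Submodule.Quotient.mk_eq_zero _).2 b.2
  change Van a (subGr 𝒯 (P.map D)) j e
  refine van_right₀ (ℳ := subGr 𝒯 Z) (𝒩 := subGr 𝒯 P)
    (f := Submodule.inclusion (inf_le_left : Z ≤ P)) (g := D.restrict (p := P) (q := P.map D)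
      (fun v hv => ⟨v, hv, rfl⟩)) (fun _ _ h => h) (fun g m hm => hD g _ hm)
      (Submodule.inclusion_injective _) ?_ ?_ h1 hVZ
  · intro y
    constructor
    · intro hy
      exact ⟨⟨y.1, y.2, congrArg Subtype.val hy⟩, rfl⟩
    · rintro ⟨b, rfl⟩
      exact Subtype.ext b.2.2
  · rintro ⟨y, v, hv, rfl⟩
    exact ⟨⟨v, hv⟩, rfl⟩

end step

section main

variable {M : Type u} [AddCommGroup M] [Module R M] {τ : Type u} [SetLike τ M] [AddSubgroupClass τ M]
  (ℳ : ι → τ) [DirectSum.Decomposition ℳ] [SetLike.GradedSMul 𝒜 ℳ]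
  {n : ℕ} (x : Fin n → R) {δ : ι} (hx : ∀ j, x j ∈ 𝒜 δ)

/-- the degrees of the terms of the Koszul complex -/
abbrev kdeg (δ : ι) (n : ℕ) : Finset (Fin n) → ι := fun I => I.card • δ

omit [GradedRing 𝒜] in
theorem eval_gr (n : ℕ) (δ : ι) (I : Finset (Fin n)) :
    IsGrHomDeg (powGr ℳ (kdeg δ n)) ℳ (LinearMap.proj I : (Finset (Fin n) → M) →ₗ[R] M)
      (- kdeg δ n I) := by
  intro g F hF
  have := hF I
  rwa [sub_eq_add_neg] at this

theorem cmp_kos (R' : Type u) [CommRing R'] [Module R' M] (n : ℕ) (δ : ι) (e : ι)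
    (F : Finset (Fin n) → M) (I : Finset (Fin n)) :
    cmp (powGr ℳ (kdeg δ n)) e F I = cmp ℳ (e - kdeg δ n I) (F I) := by
  have := cmp_mapDeg (ℳ := powGr ℳ (kdeg δ n)) (𝒩 := ℳ) (eval_gr (R := R') ℳ n δ I) e F
  rw [sub_eq_add_neg]
  exact this.symm

include hx in
theorem D_gr : IsGrHom (powGr ℳ (kdeg δ n)) (powGr ℳ (kdeg δ n)) (D x (M := M)) := by
  intro e F hF I
  rw [D_apply]
  refine sum_mem fun j hj => ?_
  have h1 : F (insert j I) ∈ ℳ (e - (I.card + 1) • δ) := by
    have := hF (insert j I)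
    rwa [kdeg, Finset.card_insert_of_notMem (Finset.mem_compl.1 hj)] at this
  have h2 : eps R j I * x j ∈ 𝒜 δ := by
    have h3 : eps R j I ∈ 𝒜 0 := by
      rw [eps]
      have h4 : (-1 : R) ∈ 𝒜 0 := neg_mem (SetLike.GradedOne.one_mem)
      have h5 := SetLike.pow_mem_graded ((I.filter (· < j)).card) h4
      rwa [smul_zero] at h5
    have := SetLike.GradedMul.mul_mem h3 (hx j)
    rwa [zero_add] at this
  have := smul_mem 𝒜 ℳ h2 h1
  rwa [show δ + (e - (I.card + 1) • δ) = e - kdeg δ n I by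
    rw [kdeg, add_smul, one_smul]; abel] at this

theorem K_hom (δ : ι) (p : ℕ) : (K R n M p).IsHomogeneous (powGr ℳ (kdeg δ n)) := by
  intro e F hF I hI
  have := cmp_kos ℳ R n δ e F I
  rw [hF I hI, map_zero] at this
  exact this

include hx in
theorem B_hom (p : ℕ) : (B x (M := M) p).IsHomogeneous (powGr ℳ (kdeg δ n)) :=
  isHomogeneous_map (D_gr ℳ x hx) (K_hom ℳ δ (p + 1))

/-- local cohomology of the terms of the Koszul complex -/
theorem van_K {a : HomogeneousIdeal 𝒜} {p i : ℕ} {e : ι} (h : Van a ℳ i (e - p • δ)) :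
    VanS (powGr ℳ (kdeg δ n)) a (K R n M p) (K_hom ℳ δ p) i e := by
  classical
  let dK := subDec (powGr ℳ (kdeg δ n)) (K R n M p) (K_hom ℳ δ p)
  change Van a (subGr (powGr ℳ (kdeg δ n)) (K R n M p)) i e
  refine van_of_sum (𝒩 := subGr (powGr ℳ (kdeg δ n)) (K R n M p)) (ℳ := ℳ)
    (S := {I : Finset (Fin n) // I.card = p}) (fun _ => p • δ)
    (fun I => (LinearMap.proj I.1 : (Finset (Fin n) → M) →ₗ[R] M) ∘ₗ (K R n M p).subtype)
    (fun I => (LinearMap.single R (fun _ => M) I.1).codRestrict (K R n M p) ?_) ?_ ?_ ?_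
    (fun _ => h)
  · intro m J hJ
    have : J ≠ I.1 := fun h' => hJ (h' ▸ I.2)
    rw [LinearMap.single_apply, Pi.single_eq_of_ne this]
  · intro I g F hF
    have := eval_gr (R := R) ℳ n δ I.1 g F.1 hF
    rwa [kdeg, I.2] at this
  · intro I g m hm J
    change (LinearMap.single R (fun _ => M) I.1) m J ∈ ℳ _
    rw [LinearMap.single_apply]
    by_cases hJ : J = I.1
    · subst hJ
      rw [Pi.single_eq_same, kdeg, I.2, add_sub_cancel_right]
      exact hm
    · rw [Pi.single_eq_of_ne hJ]; exact zero_mem _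
  · intro F
    apply Subtype.ext
    funext J
    rw [AddSubmonoidClass.coe_finsetSum, Finset.sum_apply]
    change ∑ I : {I : Finset (Fin n) // I.card = p},
      (LinearMap.single R (fun _ => M) I.1) (F.1 I.1) J = F.1 J
    by_cases hJ : J.card = p
    · rw [Finset.sum_eq_single ⟨J, hJ⟩]
      · rw [LinearMap.single_apply, Pi.single_eq_same]
      · intro I _ hI
        rw [LinearMap.single_apply, Pi.single_eq_of_ne]
        intro h'
        exact hI (Subtype.ext h'.symm)
      · intro h'; exact absurd (Finset.mem_univ _) h'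
    · rw [F.2 J hJ]
      refine Finset.sum_eq_zero fun I _ => ?_
      rw [LinearMap.single_apply, Pi.single_eq_of_ne]
      intro h'
      exact hJ (h' ▸ I.2)

/-- the boundaries -/
theorem van_B [IsNoetherianRing R] {a : HomogeneousIdeal 𝒜}
    (ha : a.toIdeal = Ideal.span (Set.range x)) {i : ℕ} {e : ι}
    (h : ∀ p : ℕ, Van a ℳ (i + p) (e - (p + 1) • δ)) (p : ℕ) :
    VanS (powGr ℳ (kdeg δ n)) a (B x p) (B_hom ℳ x hx p) (i + p) e := by
  -- descending induction
  have key : ∀ q p : ℕ, n ≤ p + q →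
      VanS (powGr ℳ (kdeg δ n)) a (B x p) (B_hom ℳ x hx p) (i + p) e := by
    intro q
    induction q with
    | zero =>
      intro p hp
      have : Subsingleton (B x (M := M) p) := by
        rw [Submodule.subsingleton_iff_eq_bot]
        exact B_eq_bot x (by omega)
      let dB := subDec (powGr ℳ (kdeg δ n)) (B x p) (B_hom ℳ x hx p)
      exact van_of_subsingleton (𝒜 := 𝒜) (ℳ := subGr (powGr ℳ (kdeg δ n)) (B x p)) _ _
    | succ q ih =>
      intro p hp
      refine step (a := a) (powGr ℳ (kdeg δ n)) (K R n M (p + 1)) (B x (p + 1))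
        (K_hom ℳ δ (p + 1)) (B_hom ℳ x hx (p + 1))
        (D x) (D_gr ℳ x hx) (B_le_Z x M (p + 1)) ?_ (van_K ℳ (h p)) ?_
      · intro F hF
        refine ⟨1, fun r hr => ?_⟩
        rw [pow_one, ha] at hr
        exact smul_mem_B x hF hr
      · exact ih (p + 1) (by omega)
  exact key n p (by omega)

/-- the augmentation `B_0 → M` -/
def aug : B x (M := M) 0 →ₗ[R] M :=
  (LinearMap.proj (∅ : Finset (Fin n)) : (Finset (Fin n) → M) →ₗ[R] M) ∘ₗ (B x (M := M) 0).subtype

theorem aug_injective : Function.Injective (aug x (M := M)) := by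
  rw [injective_iff_map_eq_zero]
  rintro ⟨F, hF⟩ h
  apply Subtype.ext
  funext I
  by_cases hI : I = ∅
  · subst hI; exact h
  · exact (B_le_Z x M 0 hF).1 I (by rw [Ne, Finset.card_eq_zero]; exact hI)

theorem aug_range : LinearMap.range (aug x (M := M)) = Ideal.span (Set.range x) • ⊤ := by
  apply le_antisymm
  · rintro _ ⟨⟨_, F, hF, rfl⟩, rfl⟩
    change D x F ∅ ∈ _
    rw [D_apply_empty]
    exact Submodule.sum_mem _ fun j _ =>
      Submodule.smul_mem_smul (Ideal.subset_span ⟨j, rfl⟩) trivial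
  · rw [Submodule.smul_le]
    intro r hr m _
    induction hr using Submodule.span_induction with
    | mem y hy =>
      obtain ⟨j, rfl⟩ := hy
      refine ⟨⟨D x (Pi.single {j} m), _, ?_, rfl⟩, ?_⟩
      · intro I hI
        refine Pi.single_eq_of_ne (fun h => hI ?_) _
        rw [h, Finset.card_singleton]
      · change D x (Pi.single {j} m) ∅ = _
        rw [D_apply_empty, Finset.sum_eq_single j]
        · rw [Pi.single_eq_same]
        · intro l _ hl
          rw [Pi.single_eq_of_ne, smul_zero]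
          intro h
          exact hl (Finset.singleton_injective h)
        · intro h; exact absurd (Finset.mem_univ _) h
    | zero => rw [zero_smul]; exact Submodule.zero_mem _
    | add a b _ _ ha hb => rw [add_smul]; exact Submodule.add_mem _ ha hb
    | smul a b _ hb => rw [smul_assoc]; exact Submodule.smul_mem _ _ hb

omit [GradedRing 𝒜] in
theorem aug_gr : IsGrHom (subGr (powGr ℳ (kdeg δ n)) (B x (M := M) 0)) ℳ (aug x (M := M)) := by
  intro g F hF
  have := hF ∅
  rwa [kdeg, Finset.card_empty, zero_smul, sub_zero] at this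

theorem smul_top_hom (a : HomogeneousIdeal 𝒜) :
    (a.toIdeal • (⊤ : Submodule R M)).IsHomogeneous ℳ := by
  intro e m hm
  change cmp ℳ e m ∈ _
  induction hm using Submodule.smul_induction_on' with
  | smul r hr m _ =>
    rw [← sum_cmp 𝒜 r, Finset.sum_smul, map_sum]
    refine Submodule.sum_mem _ fun j _ => ?_
    rw [cmp_smul' 𝒜 ℳ (cmp_mem 𝒜 j r)]
    exact Submodule.smul_mem_smul (a.2 j hr) trivial
  | add x _ y _ hx hy => rw [map_add]; exact Submodule.add_mem _ hx hy

theorem quot_torsion (a : HomogeneousIdeal 𝒜) :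
    gam a.toIdeal (M ⧸ (a.toIdeal • (⊤ : Submodule R M))) = ⊤ := by
  rw [eq_top_iff]
  rintro y -
  obtain ⟨m, rfl⟩ := Submodule.mkQ_surjective _ y
  refine ⟨1, fun r hr => ?_⟩
  rw [pow_one] at hr
  rw [← map_smul]
  exact (Submodule.Quotient.mk_eq_zero _).2 (Submodule.smul_mem_smul hr trivial)

theorem aug_exact {a : HomogeneousIdeal 𝒜} (ha : a.toIdeal = Ideal.span (Set.range x)) :
    Function.Exact (aug x (M := M)) (a.toIdeal • (⊤ : Submodule R M)).mkQ := by
  rw [LinearMap.exact_iff, Submodule.ker_mkQ, aug_range, ha]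

include hx in
/-- vanishing on the diagonals below implies vanishing (positive cohomological degree) -/
theorem van_succ [IsNoetherianRing R] {a : HomogeneousIdeal 𝒜}
    (ha : a.toIdeal = Ideal.span (Set.range x)) {i : ℕ} (hi : 0 < i) {e : ι}
    (h : ∀ p : ℕ, Van a ℳ (i + p) (e - (p + 1) • δ)) : Van a ℳ i e := by
  have h1 := van_B ℳ x hx ha h 0
  rw [add_zero] at h1
  let dB := subDec (powGr ℳ (kdeg δ n)) (B x (M := M) 0) (B_hom ℳ x hx 0)
  let dQ := quoDec ℳ _ (smul_top_hom ℳ a)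
  refine van_mid₀ (ℳ := subGr (powGr ℳ (kdeg δ n)) (B x (M := M) 0))
    (𝒩 := ℳ) (𝒬 := quoGr ℳ (a.toIdeal • (⊤ : Submodule R M)))
    (aug_gr ℳ x) (isGrHom_mkQ ℳ _) (aug_injective x) (aug_exact x ha)
    (Submodule.mkQ_surjective _) h1 (van_of_torsion (quot_torsion a) hi e)

include hx in
/-- vanishing on the diagonal implies generation in lower degrees -/
theorem le_smul_top [IsNoetherianRing R] {a : HomogeneousIdeal 𝒜}
    (ha : a.toIdeal = Ideal.span (Set.range x)) {e : ι}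
    (h : ∀ p : ℕ, Van a ℳ p (e - p • δ)) {m : M} (hm : m ∈ ℳ e) :
    m ∈ a.toIdeal • (⊤ : Submodule R M) := by
  have h1 := van_B ℳ x hx ha (i := 1) (e := e) (fun p => by
    have := h (p + 1)
    rwa [add_comm 1 p]) 0
  rw [add_zero] at h1
  let dB := subDec (powGr ℳ (kdeg δ n)) (B x (M := M) 0) (B_hom ℳ x hx 0)
  let dQ := quoDec ℳ _ (smul_top_hom ℳ a)
  have h2 : Van a (quoGr ℳ (a.toIdeal • (⊤ : Submodule R M))) 0 e := by
    refine van_right₀ (ℳ := subGr (powGr ℳ (kdeg δ n)) (B x (M := M) 0))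
      (𝒩 := ℳ) (𝒬 := quoGr ℳ (a.toIdeal • (⊤ : Submodule R M)))
      (aug_gr ℳ x) (isGrHom_mkQ ℳ _) (aug_injective x) (aug_exact x ha)
      (Submodule.mkQ_surjective _) ?_ h1
    have := h 0
    rwa [zero_smul, sub_zero] at this
  have h3 := van_zero_iff.1 h2 ((a.toIdeal • (⊤ : Submodule R M)).mkQ m) ⟨m, hm, rfl⟩
    (by
      have := quot_torsion (M := M) a
      change _ ∈ gam a.toIdeal (M ⧸ (a.toIdeal • (⊤ : Submodule R M)))
      rw [this]; trivial)
  exact (Submodule.Quotient.mk_eq_zero _).1 h3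

end main

end K859.KosVan
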