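import Groth.Agent.GrLC.K759.GrObj

/-!
# Finite direct sums of shifts of a graded module
-/

set_option autoImplicit false
set_option linter.unusedSectionVars false
set_option warn.classDefReducibility false
universe u

open GrLC DirectSum K759.Gr

namespace K859.Pow

variable {ι : Type} [AddCommGroup ι] [DecidableEq ι]
variable {R : Type u} [CommRing R] {σ : Type u} [SetLike σ R] [AddSubgroupClass σ R]
  (𝒜 : ι → σ) [GradedRing 𝒜]
variable {M : Type u} [AddCommGroup M] [Module R M] {τ : Type u} [SetLike τ M] [AddSubgroupClass τ M]
  (ℳ : ι → τ)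
variable {S : Type} (d : S → ι)

/-- The pieces of `⊕_s M(-d s)`: the `s`-th coordinate of an element of degree `e` lies in
`M_{e - d s}`. -/
def powGr : ι → AddSubgroup (S → M) := fun e =>
  { carrier := {F | ∀ s, F s ∈ ℳ (e - d s)}
    zero_mem' := fun _ => zero_mem _
    add_mem' := fun hx hy s => add_mem (hx s) (hy s)
    neg_mem' := fun hx s => neg_mem (hx s) }

omit [DecidableEq ι] in
theorem mem_powGr {e : ι} {F : S → M} : F ∈ powGr ℳ d e ↔ ∀ s, F s ∈ ℳ (e - d s) := Iff.rfl

instance powGr_gradedSMul [SetLike.GradedSMul 𝒜 ℳ] : SetLike.GradedSMul 𝒜 (powGr ℳ d) where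
  smul_mem {i j r F} hr hF := by
    intro s
    have := smul_mem 𝒜 ℳ hr (hF s)
    rw [vadd_eq_add, Pi.smul_apply]
    rwa [show i + j - d s = i + (j - d s) by abel]

variable [Fintype S] [DirectSum.Decomposition ℳ]

open Classical in
/-- The decomposition of a finite direct sum of shifts. -/
noncomputable instance powDec : DirectSum.Decomposition (powGr ℳ d) :=
  mkDecomp (powGr ℳ d)
    (fun e =>
      { toFun := fun F s => cmp ℳ (e - d s) (F s)
        map_zero' := by ext s; simp
        map_add' := fun F G => by ext s; simp })
    (fun e F s => cmp_mem ℳ (e - d s) (F s))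
    (fun F => by
      refine ⟨Finset.univ.biUnion fun s => (supp ℳ (F s)).image (· + d s), fun e he => ?_, ?_⟩
      · funext s
        change cmp ℳ (e - d s) (F s) = 0
        refine cmp_eq_zero_of_notMem ℳ fun h => he ?_
        simp only [Finset.mem_biUnion, Finset.mem_univ, true_and, Finset.mem_image]
        exact ⟨s, e - d s, h, by abel⟩
      · funext s
        rw [Finset.sum_apply]
        change ∑ e ∈ _, cmp ℳ (e - d s) (F s) = F s
        have h1 : ∑ e ∈ (supp ℳ (F s)).image (· + d s), cmp ℳ (e - d s) (F s) = F s := by
          rw [Finset.sum_image (by intro x _ y _ h; exact add_right_cancel h)]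
          simp only [add_sub_cancel_right]
          exact sum_cmp ℳ (F s)
        rw [← Finset.sum_subset (Finset.subset_biUnion_of_mem
          (fun s => (supp ℳ (F s)).image (· + d s)) (Finset.mem_univ s)), h1]
        intro e _ he
        refine cmp_eq_zero_of_notMem ℳ fun h => he ?_
        exact Finset.mem_image.2 ⟨_, h, by abel⟩)
    (fun e F hF => by
      funext s
      exact cmp_same ℳ (hF s))
    (fun e e' F hne hF => by
      funext s
      exact cmp_ne ℳ (fun h => hne (by
        have := congrArg (· + d s) h
        simpa using this)) (hF s))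

/-- the finite direct sum of shifts as an object of the graded category -/
noncomputable abbrev pow [SetLike.GradedSMul 𝒜 ℳ] : GrLC.GMod.{u} 𝒜 :=
  GrLC.GMod.of 𝒜 (S → M) (powGr ℳ d)

end K859.Pow
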