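import Groth.Agent.GrLC.K859.HilbLC
import Groth.Agent.Localalg.LCRows

/-!
# The Serre-Grothendieck formula for modules with a shift map (Rees modules)
-/

set_option autoImplicit false
set_option linter.unusedSectionVars false
universe u

open GrLC DirectSum K759.Gr K759.GrObj K963.Iface K859.AltLen K859.HilbLC

namespace K859.ReesLC

theorem isFiniteLength_mid {S : Type u} [CommRing S] {A B C : Type u} [AddCommGroup A] [Module S A]
    [AddCommGroup B] [Module S B] [AddCommGroup C] [Module S C] (f : A →ₗ[S] B) (g : B →ₗ[S] C)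
    (h : Function.Exact f g) (hA : IsFiniteLength S A) (hC : IsFiniteLength S C) :
    IsFiniteLength S B := by
  obtain ⟨h1, h2⟩ := isFiniteLength_iff_isNoetherian_isArtinian.1 hA
  obtain ⟨h3, h4⟩ := isFiniteLength_iff_isNoetherian_isArtinian.1 hC
  have h5 : LinearMap.range f = LinearMap.ker g := (LinearMap.exact_iff.1 h).symm
  exact isFiniteLength_iff_isNoetherian_isArtinian.2
    ⟨isNoetherian_of_range_eq_ker f g h5, isArtinian_of_range_eq_ker f g h5⟩

/-- uniform vanishing in large cohomological degrees -/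
theorem exists_subsingleton {ι : Type} [AddCommGroup ι] [DecidableEq ι]
    {R : Type u} [CommRing R] [IsNoetherianRing R] {σ : Type u} [SetLike σ R]
    [AddSubgroupClass σ R] {𝒜 : ι → σ} [GradedRing 𝒜]
    (a : HomogeneousIdeal 𝒜) : ∃ N : ℕ, ∀ {M : Type u} [AddCommGroup M] [Module R M] {τ : Type u}
      [SetLike τ M] [AddSubgroupClass τ M] {ℳ : ι → τ} [DirectSum.Decomposition ℳ]
      [SetLike.GradedSMul 𝒜 ℳ] (E : StarInjRes 𝒜 ℳ) (i : ℕ), N < i → Subsingleton (E.H a i) := by
  obtain ⟨s, hs⟩ := (IsNoetherian.noetherian a.toIdeal : a.toIdeal.FG)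
  refine ⟨s.card, fun {M} _ _ {τ} _ _ {ℳ} _ _ E i hi => ?_⟩
  obtain ⟨e⟩ := K759.AcycInj.nonempty_equiv E a i
  have h1 : LocCoh.CdLE R (Ideal.span (s : Set R)) s.card :=
    Groth.Agent.Localalg.LCRows.cdLE_card s
  have h2 := h1 M i hi
  have h3 : Ideal.span (s : Set R) = a.toIdeal := hs
  rw [h3] at h2
  exact e.toEquiv.subsingleton

variable {R : Type u} [CommRing R] [IsNoetherianRing R] {σ : Type u} [SetLike σ R]
  [AddSubgroupClass σ R] {𝒜 : ℤ → σ} [GradedRing 𝒜] (a : HomogeneousIdeal 𝒜)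

theorem main (ha : a.toIdeal = Ideal.span (⋃ n ∈ Set.Ioi (0 : ℤ), (𝒜 n : Set R)))
    (J : Ideal (deg0 𝒜)) (hJ : IsFiniteLength (deg0 𝒜) (deg0 𝒜 ⧸ J))
    (X X' G C : GMod.{u} 𝒜) (hX : Module.Finite R X.carrier)
    {s : X'.carrier →ₗ[R] X.carrier} (hs : IsGrHomDeg X'.gr X.gr s 0) (hsi : Function.Injective s)
    {p : X.carrier →ₗ[R] G.carrier} (hp : IsGrHomDeg X.gr G.gr p 0) (hps : Function.Surjective p)
    (hsp : Function.Exact s p)
    {v : X'.carrier →ₗ[R] X.carrier} (hv : IsGrHomDeg X'.gr X.gr v 1) (hvi : Function.Injective v)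
    {q : X.carrier →ₗ[R] C.carrier} (hq : IsGrHomDeg X.gr C.gr q 0) (hqs : Function.Surjective q)
    (hvq : Function.Exact v q) (hC : gam a.toIdeal C.carrier = ⊤)
    (hC1 : ∀ n : ℤ, 0 < n → ∀ x ∈ C.gr n, x = 0)
    (hGk : ∀ r ∈ J, ∀ x : G.carrier, (r : R) • x = 0) (h : ℕ → ℚ)
    (hh : ∀ n : ℕ, len (deg0 𝒜) (comp 𝒜 G.gr (n : ℤ)) = h (n + 1) - h n)
    (P : Polynomial ℚ) (hP : ∃ N : ℕ, ∀ n : ℕ, N ≤ n → P.eval (n : ℚ) = h n)
    (E : StarInjRes 𝒜 X.gr) :
    (∀ (i n : ℕ), IsFiniteLength (deg0 𝒜) (E.Hcomp a i (n : ℤ))) ∧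
    ∃ B : ℕ, (∀ (Y : GMod.{u} 𝒜) (F : StarInjRes 𝒜 Y.gr) (i : ℕ), B < i →
      Subsingleton (F.H a i)) ∧
      ∀ n : ℕ, P.eval (n : ℚ) - h n = chi E a B (n : ℤ) := by
  have hG : Module.Finite R G.carrier := Module.Finite.of_surjective p hps
  obtain ⟨E'⟩ := nonempty_res 𝒜 X'.gr
  obtain ⟨EG⟩ := nonempty_res 𝒜 G.gr
  obtain ⟨EC⟩ := nonempty_res 𝒜 C.gr
  -- the cohomology of `C` vanishes in positive degrees
  have hCv : ∀ (i : ℕ) (n : ℤ), 0 < n → Subsingleton (EC.Hcomp a i n) := by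
    intro i n hn
    rcases Nat.eq_zero_or_pos i with rfl | hi
    · refine ⟨fun x y => ?_⟩
      have key : ∀ x : EC.Hcomp a 0 n, x = 0 := by
        rintro ⟨x, hx⟩
        obtain ⟨y, rfl⟩ := (H0equiv EC a).surjective x
        have h1 := (H0equiv_mem_iff EC a y n).1 hx
        have h2 : y = 0 := Subtype.ext (hC1 n hn _ h1)
        subst h2
        exact Subtype.ext (map_zero _)
      rw [key x, key y]
    · have := H_subsingleton_of_torsion EC a (i := i) hC hi
      infer_instance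
  -- hence `v` induces isomorphisms
  have hveq : ∀ (i : ℕ) (n : ℤ), 0 ≤ n →
      Nonempty (E'.Hcomp a i n ≃ₗ[deg0 𝒜] E.Hcomp a i (n + 1)) := by
    intro i n hn
    obtain ⟨φ, ψ, δ, e0, e1, e2, e3, -, -⟩ :=
      exists_piece_les' E' E EC a hv hq hvi hvq hqs n (n + 1) rfl
    refine ⟨LinearEquiv.ofBijective (φ i) ⟨?_, fun y => ?_⟩⟩
    · cases i with
      | zero => exact e0
      | succ i =>
        rw [injective_iff_map_eq_zero]
        intro x hx
        obtain ⟨z, rfl⟩ := (e3 i x).1 hx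
        have := hCv i (n + 1) (by omega)
        rw [Subsingleton.elim z 0, map_zero]
    · have := hCv i (n + 1) (by omega)
      exact (e1 i y).1 (Subsingleton.elim _ _)
  -- finiteness
  have hGf : ∀ (i : ℕ) (n : ℤ), IsFiniteLength (deg0 𝒜) (EG.Hcomp a i n) :=
    fun i n => fin_Hcomp a ha J hJ G hG hGk EG i n
  obtain ⟨B, hB⟩ := exists_subsingleton a
  choose r hr using fun i => (K859.SerreG.stmt a ha i X hX E).1
  have hr' : ∃ N : ℤ, ∀ i, ∀ n, N ≤ n → E.Hcomp a i n = ⊥ := by
    refine ⟨∑ i ∈ Finset.range (B + 1), |r i|, fun i n hn => ?_⟩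
    rcases lt_or_ge B i with hi | hi
    · have := hB E i hi
      rw [eq_bot_iff]
      intro x _
      exact Subsingleton.elim _ _
    · refine hr i n (le_trans ?_ hn)
      exact (le_abs_self _).trans (Finset.single_le_sum (f := fun i => |r i|)
        (fun j _ => abs_nonneg _) (Finset.mem_range.2 (by omega)))
  obtain ⟨N, hN⟩ := hr'
  have hfin : ∀ (k : ℕ) (n : ℤ), 0 ≤ n → N - k ≤ n → ∀ i,
      IsFiniteLength (deg0 𝒜) (E.Hcomp a i n) := by
    intro k
    induction k with
    | zero =>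
      intro n _ hn i
      have h1 := hN i n (by simpa using hn)
      have : Subsingleton (E.Hcomp a i n) := by rw [h1]; infer_instance
      exact IsFiniteLength.of_subsingleton
    | succ k ihk =>
      intro n h0 hn i
      have h1 := ihk (n + 1) (by omega) (by push_cast at hn; omega) i
      obtain ⟨e⟩ := hveq i n h0
      obtain ⟨φ, ψ, δ, e0, e1, e2, e3, -, -⟩ :=
        exists_piece_les' E' E EG a hs hp hsi hsp hps n n (add_zero n)
      exact isFiniteLength_mid (φ i) (ψ i) (e1 i) (h1.of_surjective (f := e.symm.toLinearMap) e.symm.surjective) (hGf i n)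
  have hfin' : ∀ (n : ℤ), 0 ≤ n → ∀ i, IsFiniteLength (deg0 𝒜) (E.Hcomp a i n) :=
    fun n hn i => hfin (N - n).toNat n hn (by omega) i
  refine ⟨fun i n => hfin' n (by omega) i, B, fun Y F i hi => hB F i hi, ?_⟩
  have hfE' : ∀ (n : ℤ), 0 ≤ n → ∀ i, IsFiniteLength (deg0 𝒜) (E'.Hcomp a i n) := by
    intro n hn i
    obtain ⟨e⟩ := hveq i n hn
    exact (hfin' (n + 1) (by omega) i).of_surjective (f := e.symm.toLinearMap) e.symm.surjective
  -- the recursion
  have e1 : ∀ n : ℤ, 0 ≤ n → chi E a B n = chi E a B (n + 1) + chi EG a B n := by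
    intro n hn
    have h1 := chi_add E' E EG a hs hp hsi hsp hps n B (hB E' _ (Nat.lt_succ_self B))
      (fun i => by rw [sub_zero]; exact hfE' n hn i) (hfin' n hn) (fun i => hGf i n)
    rw [sub_zero] at h1
    rw [h1]
    congr 1
    refine Finset.sum_congr rfl fun i _ => ?_
    obtain ⟨e⟩ := hveq i n hn
    rw [len_congr e]
  -- the formula for `G`
  obtain ⟨NP, hNP⟩ := hP
  have e2 : ∀ n : ℤ, len (deg0 𝒜) (comp 𝒜 G.gr n)
      - (P.comp (Polynomial.X + 1) - P).eval (n : ℚ) = chi EG a B n := by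
    refine formula a ha J hJ B (fun Y _ F i hi => hB F i hi) ⊥ G hG (fun r hr x => ?_) hGk EG _
      ⟨NP, fun n hn => ?_⟩
    · rw [Ideal.mem_bot] at hr
      rw [hr, zero_smul]
    · obtain ⟨k, rfl⟩ : ∃ k : ℕ, n = k := ⟨n.toNat, by omega⟩
      rw [hh]
      have h1 := hNP k (by omega)
      have h2 := hNP (k + 1) (by omega)
      push_cast at h2
      simp only [Polynomial.eval_sub, Polynomial.eval_comp, Polynomial.eval_add,
        Polynomial.eval_X, Polynomial.eval_one, Int.cast_natCast]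
      rw [h1, h2]
  have key : ∀ (k n : ℕ), max N NP - k ≤ n → P.eval (n : ℚ) - h n = chi E a B (n : ℤ) := by
    intro k
    induction k with
    | zero =>
      intro n hn
      rw [hNP n (by omega), sub_self]
      symm
      refine Finset.sum_eq_zero fun i _ => ?_
      have h1 := hN i n (by omega)
      have : Subsingleton (E.Hcomp a i n) := by rw [h1]; infer_instance
      rw [len_zero, mul_zero]
    | succ k ihk =>
      intro n hn
      have h1 := ihk (n + 1) (by push_cast at hn ⊢; omega)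
      have h2 := e1 n (by omega)
      have h3 := e2 n
      have h4 := hh n
      push_cast at h1
      simp only [Polynomial.eval_sub, Polynomial.eval_comp, Polynomial.eval_add,
        Polynomial.eval_X, Polynomial.eval_one, Int.cast_natCast] at h3
      rw [h2, ← h1, ← h3, h4]
      ring
  intro n
  exact key (max N NP - n).toNat n (by omega)

end K859.ReesLC
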