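import Groth.Agent.GrLC.K859.ReesLC
import Groth.Agent.Localalg.Matlis3

/-!
# Rees modules of the adic filtration, abstractly: shift, associated graded module
-/

set_option autoImplicit false
set_option linter.unusedSectionVars false
universe u

open GrLC DirectSum K759.Gr K759.GrObj K859.AltLen K859.HilbLC

namespace K859.ReesMod

variable {A : Type u} [CommRing A] {I : Ideal A} {M : Type u} [AddCommGroup M] [Module A M]
variable {S : Type u} [CommRing S] {σ : Type u} [SetLike σ S] [AddSubgroupClass σ S]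
  {𝒜 : ℤ → σ} [GradedRing 𝒜] {X : Type u} [AddCommGroup X] [Module S X]
  {𝒳 : ℤ → AddSubgroup X} [DirectSum.Decomposition 𝒳] [SetLike.GradedSMul 𝒜 𝒳]

/-- Coordinates on a Rees algebra and a Rees module: `S = ⊕ I^n`, `X = ⊕ I^n M`. -/
structure Data (I : Ideal A) (M : Type u) [AddCommGroup M] [Module A M] (𝒜 : ℤ → σ)
    [GradedRing 𝒜] (𝒳 : ℤ → AddSubgroup X) where
  /-- coefficients of ring elements -/
  rco : ℕ → S → A
  /-- constant term -/
  phi : S →+* A
  phi_eq : ∀ r, phi r = rco 0 r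
  rco_mem : ∀ n r, rco n r ∈ I ^ n
  rmem_iff : ∀ (n : ℤ) r, r ∈ 𝒜 n ↔ ∀ m : ℕ, (m : ℤ) ≠ n → rco m r = 0
  const : ∀ a : A, ∃ r ∈ 𝒜 0, rco 0 r = a
  /-- coefficients of module elements -/
  co : ℕ → X →+ M
  co_mem : ∀ n x, co n x ∈ I ^ n • (⊤ : Submodule A M)
  co_ext : ∀ x y, (∀ n, co n x = co n y) → x = y
  mem_iff : ∀ (n : ℤ) x, x ∈ 𝒳 n ↔ ∀ m : ℕ, (m : ℤ) ≠ n → co m x = 0
  co_smul : ∀ n r x, co n (r • x) = ∑ p ∈ Finset.antidiagonal n, rco p.1 r • co p.2 x
  finsupp : ∀ x, ∃ c : ℕ →₀ M, ∀ n, co n x = c n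
  exists_of : ∀ c : ℕ →₀ M, (∀ n, c n ∈ I ^ n • (⊤ : Submodule A M)) → ∃ x, ∀ n, co n x = c n

variable (D : Data I M 𝒜 𝒳)

namespace Data

theorem co_cmp (x : X) (i : ℤ) (n : ℕ) :
    D.co n (cmp 𝒳 i x) = if (n : ℤ) = i then D.co n x else 0 := by
  split_ifs with h
  · subst h
    have h1 := congrArg (D.co n) (sum_cmp 𝒳 x)
    rw [map_sum] at h1
    rw [← h1]
    symm
    refine Finset.sum_eq_single _ (fun j _ hj => ?_) (fun hn => ?_)
    · exact (D.mem_iff _ _).1 (cmp_mem 𝒳 j x) n (Ne.symm hj)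
    · rw [cmp_eq_zero_of_notMem _ hn, map_zero]
  · exact (D.mem_iff _ _).1 (cmp_mem 𝒳 i x) n h

/-- the submodule `⊕ I^{n+1} M` of the Rees module `⊕ I^n M` -/
def sh : Submodule S X where
  carrier := {x | ∀ n, D.co n x ∈ I ^ (n + 1) • (⊤ : Submodule A M)}
  zero_mem' := fun n => by rw [map_zero]; exact zero_mem _
  add_mem' := fun hx hy n => by rw [map_add]; exact add_mem (hx n) (hy n)
  smul_mem' := fun r x hx n => by
    rw [D.co_smul]
    refine Submodule.sum_mem _ fun p hp => ?_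
    rw [Finset.mem_antidiagonal] at hp
    have h2 := Submodule.smul_mem_smul (D.rco_mem p.1 r) (hx p.2)
    rw [← Submodule.smul_assoc, smul_eq_mul, ← pow_add, ← add_assoc, hp] at h2
    exact h2

theorem sh_homogeneous : D.sh.IsHomogeneous 𝒳 := by
  intro i x hx
  change cmp 𝒳 i x ∈ _
  intro n
  rw [D.co_cmp]
  split_ifs
  · exact hx n
  · exact zero_mem _

theorem exists_shift (x : X) : ∃ y : X, (x ∈ D.sh → D.co 0 y = 0 ∧ ∀ n, D.co (n + 1) y = D.co n x) := by
  by_cases hx : x ∈ D.sh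
  · obtain ⟨c, hc⟩ := D.finsupp x
    let c' : ℕ →₀ M := c.embDomain ⟨Nat.succ, Nat.succ_injective⟩
    have h1 : ∀ n, c' (n + 1) = c n := fun n =>
      Finsupp.embDomain_apply_self ⟨Nat.succ, Nat.succ_injective⟩ c n
    have h0 : c' 0 = 0 := Finsupp.embDomain_of_notMem_range _ _ _ (by
      rintro ⟨n, hn⟩
      exact Nat.succ_ne_zero n hn)
    obtain ⟨y, hy⟩ := D.exists_of c' (fun n => by
      cases n with
      | zero => rw [h0]; exact zero_mem _
      | succ n => rw [h1, ← hc]; exact hx n)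
    exact ⟨y, fun _ => ⟨by rw [hy, h0], fun n => by rw [hy, h1, hc]⟩⟩
  · exact ⟨0, fun h => absurd h hx⟩

/-- multiplication by the variable -/
noncomputable def mulX : D.sh →ₗ[S] X where
  toFun x := (D.exists_shift x).choose
  map_add' x y := by
    have hx := (D.exists_shift x).choose_spec x.2
    have hy := (D.exists_shift y).choose_spec y.2
    have hxy := (D.exists_shift (x + y : D.sh)).choose_spec (x + y : D.sh).2
    refine D.co_ext _ _ fun n => ?_
    rw [map_add]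
    cases n with
    | zero => rw [hxy.1, hx.1, hy.1, add_zero]
    | succ n => rw [hxy.2, hx.2, hy.2, Submodule.coe_add, map_add]
  map_smul' r x := by
    have hx := (D.exists_shift x).choose_spec x.2
    have hrx := (D.exists_shift (r • x : D.sh)).choose_spec (r • x : D.sh).2
    refine D.co_ext _ _ fun n => ?_
    rw [RingHom.id_apply, D.co_smul]
    cases n with
    | zero =>
      rw [hrx.1, Finset.Nat.antidiagonal_zero, Finset.sum_singleton]
      exact ((congrArg _ hx.1).trans (smul_zero _)).symm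
    | succ n =>
      rw [hrx.2, Submodule.coe_smul, D.co_smul, Finset.Nat.sum_antidiagonal_succ', hx.1, smul_zero,
        zero_add]
      refine Finset.sum_congr rfl fun p _ => ?_
      rw [hx.2]

theorem co_mulX_zero (x : D.sh) : D.co 0 (D.mulX x) = 0 :=
  ((D.exists_shift x).choose_spec x.2).1

theorem co_mulX_succ (x : D.sh) (n : ℕ) : D.co (n + 1) (D.mulX x) = D.co n x :=
  ((D.exists_shift x).choose_spec x.2).2 n

theorem mulX_injective : Function.Injective D.mulX := by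
  intro x y h
  refine Subtype.ext (D.co_ext _ _ fun n => ?_)
  rw [← co_mulX_succ, ← co_mulX_succ, h]

theorem mem_range_mulX {x : X} (hx : D.co 0 x = 0) : x ∈ LinearMap.range D.mulX := by
  obtain ⟨c, hc⟩ := D.finsupp x
  let c' : ℕ →₀ M := Finsupp.comapDomain Nat.succ c (Nat.succ_injective.injOn)
  have hc' : ∀ n, c' n = D.co (n + 1) x := fun n => (hc (n + 1)).symm
  obtain ⟨y, hy⟩ := D.exists_of c' (fun n => by
    rw [hc']
    exact Submodule.smul_mono_left (Ideal.pow_le_pow_right (Nat.le_succ n)) (D.co_mem (n + 1) x))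
  refine ⟨⟨y, fun n => by rw [hy, hc']; exact D.co_mem (n + 1) x⟩, D.co_ext _ _ fun n => ?_⟩
  cases n with
  | zero => rw [co_mulX_zero, hx]
  | succ n => rw [co_mulX_succ, ← hc', ← hy]

theorem co_smul_deg0 (r : deg0 𝒜) (x : X) (n : ℕ) :
    D.co n ((r : S) • x) = D.phi (r : S) • D.co n x := by
  rw [D.co_smul, Finset.sum_eq_single (0, n), D.phi_eq]
  · rintro ⟨i, j⟩ hij hne
    rw [Finset.mem_antidiagonal] at hij
    have hi : i ≠ 0 := by
      rintro rfl
      apply hne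
      simp at hij
      rw [hij]
    have : D.rco i (r : S) = 0 := (D.rmem_iff 0 _).1 r.2 i (by exact_mod_cast hi)
    rw [this, zero_smul]
  · intro h
    exact absurd (Finset.mem_antidiagonal.2 (zero_add n)) h

/-- constant term on `R_0` -/
def phi0 : deg0 𝒜 →+* A := D.phi.comp (deg0 𝒜).subtype

theorem phi0_surjective : Function.Surjective D.phi0 := by
  intro a
  obtain ⟨r, hr, h⟩ := D.const a
  exact ⟨⟨r, hr⟩, (D.phi_eq r).trans h⟩

/-- lengths over `R_0` and over `A` agree -/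
theorem length_compHom (Y : Type u) [AddCommGroup Y] [Module A Y] :
    @Module.length (deg0 𝒜) Y _ _ (Module.compHom Y D.phi0) = Module.length A Y := by
  let m1 : Module (deg0 𝒜) Y := Module.compHom Y D.phi0
  let m2 : Algebra (deg0 𝒜) A := D.phi0.toAlgebra
  have : IsScalarTower (deg0 𝒜) A Y := IsScalarTower.of_algebraMap_smul fun r x => rfl
  exact Module.length_eq_of_surjective (S := deg0 𝒜) (R := A) (M := Y) D.phi0_surjective

theorem mulX_deg : IsGrHomDeg (subGr 𝒳 D.sh) 𝒳 D.mulX 1 := by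
  intro n x hx
  rw [D.mem_iff]
  intro m hm
  cases m with
  | zero => exact D.co_mulX_zero x
  | succ m =>
    rw [co_mulX_succ]
    have h1 : (x : X) ∈ 𝒳 n := hx
    exact (D.mem_iff _ _).1 h1 m fun h => hm (by push_cast; rw [h])

theorem range_homogeneous : (LinearMap.range D.mulX).IsHomogeneous 𝒳 := by
  rintro i _ ⟨x, rfl⟩
  change cmp 𝒳 i (D.mulX x) ∈ _
  apply D.mem_range_mulX
  rw [D.co_cmp, D.co_mulX_zero, ite_self]


theorem smul_mem_range {n : ℤ} {r : S} (hr : r ∈ 𝒜 n) (hn : 0 < n) (y : X) :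
    r • y ∈ LinearMap.range D.mulX := by
  apply D.mem_range_mulX
  rw [D.co_smul]
  refine Finset.sum_eq_zero fun p hp => ?_
  have h1 : D.rco p.1 r = 0 := by
    refine (D.rmem_iff _ _).1 hr _ ?_
    have : p.1 = 0 := by
      have := Finset.mem_antidiagonal.1 hp
      omega
    rw [this]
    push_cast
    omega
  rw [h1, zero_smul]

theorem gam_quo (a : Ideal S) (ha : a = Ideal.span (⋃ n ∈ Set.Ioi (0 : ℤ), (𝒜 n : Set S))) :
    gam a (X ⧸ LinearMap.range D.mulX) = ⊤ := by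
  rw [eq_top_iff]
  rintro x -
  obtain ⟨x, rfl⟩ := Submodule.mkQ_surjective _ x
  refine ⟨1, fun r hr => ?_⟩
  rw [pow_one, ha] at hr
  have key : ∀ y : X, r • y ∈ LinearMap.range D.mulX := by
    induction hr using Submodule.span_induction with
    | zero => intro y; rw [zero_smul]; exact zero_mem _
    | mem r hr =>
      intro y
      simp only [Set.mem_iUnion, Set.mem_Ioi] at hr
      obtain ⟨n, hn, hr⟩ := hr
      exact D.smul_mem_range hr hn y
    | add r s _ _ hr hs => intro y; rw [add_smul]; exact add_mem (hr y) (hs y)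
    | smul r s _ hs => intro y; rw [smul_eq_mul, mul_smul]; exact Submodule.smul_mem _ _ (hs y)
  exact (Submodule.Quotient.mk_eq_zero _).2 (key x)

theorem quo_eq_zero (n : ℤ) (hn : 0 < n) (x : X ⧸ LinearMap.range D.mulX)
    (hx : x ∈ quoGr 𝒳 (LinearMap.range D.mulX) n) : x = 0 := by
  obtain ⟨y, hy, rfl⟩ := hx
  refine (Submodule.Quotient.mk_eq_zero _).2 (D.mem_range_mulX ?_)
  refine (D.mem_iff _ _).1 hy 0 ?_
  push_cast
  omega

theorem killed (r : deg0 𝒜) (hr : r ∈ I.comap D.phi0) (x : X ⧸ D.sh) : (r : S) • x = 0 := by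
  obtain ⟨x, rfl⟩ := Submodule.mkQ_surjective _ x
  refine (Submodule.Quotient.mk_eq_zero _).2 fun n => ?_
  rw [D.co_smul_deg0, pow_succ', ← smul_eq_mul, Submodule.smul_assoc]
  exact Submodule.smul_mem_smul hr (D.co_mem n x)

/-- the piece of degree `n` of the associated graded module maps to `M / I^(n+1) M` -/
def gmap (n : ℕ) : (X ⧸ D.sh) →+ M ⧸ (I ^ (n + 1) • (⊤ : Submodule A M)) :=
  QuotientAddGroup.lift D.sh.toAddSubgroup
    ((I ^ (n + 1) • (⊤ : Submodule A M)).mkQ.toAddMonoidHom.comp (D.co n))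
    (fun x hx => (Submodule.Quotient.mk_eq_zero _).2 (hx n))

theorem gmap_mk (n : ℕ) (x : X) :
    D.gmap n (D.sh.mkQ x) = Submodule.Quotient.mk (D.co n x) := rfl

theorem gmap_smul (n : ℕ) (r : deg0 𝒜) (x : X ⧸ D.sh) :
    D.gmap n ((r : S) • x) = D.phi0 r • D.gmap n x := by
  obtain ⟨x, rfl⟩ := Submodule.mkQ_surjective _ x
  rw [← map_smul, gmap_mk, gmap_mk, D.co_smul_deg0]
  rfl

theorem gmap_injective (n : ℕ) (x : X ⧸ D.sh) (hx : x ∈ quoGr 𝒳 D.sh (n : ℤ))
    (h : D.gmap n x = 0) : x = 0 := by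
  obtain ⟨y, hy, rfl⟩ := hx
  refine (Submodule.Quotient.mk_eq_zero _).2 fun m => ?_
  by_cases hm : (m : ℤ) = n
  · obtain rfl : m = n := by exact_mod_cast hm
    exact (Submodule.Quotient.mk_eq_zero _).1 h
  · rw [(D.mem_iff _ _).1 hy m hm]
    exact zero_mem _

theorem exists_gmap (n : ℕ) (m : M) (hm : m ∈ I ^ n • (⊤ : Submodule A M)) :
    ∃ x ∈ quoGr 𝒳 D.sh (n : ℤ), D.gmap n x = Submodule.Quotient.mk m := by
  obtain ⟨y, hy⟩ := D.exists_of (Finsupp.single n m) (fun i => by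
    rw [Finsupp.single_apply]
    split_ifs with h
    · subst h; exact hm
    · exact zero_mem _)
  refine ⟨D.sh.mkQ y, ⟨y, ?_, rfl⟩, ?_⟩
  · refine (D.mem_iff _ _).2 fun i hi => ?_
    rw [hy, Finsupp.single_apply, if_neg]
    rintro rfl
    exact hi rfl
  · rw [gmap_mk, hy, Finsupp.single_eq_same]

theorem len_quo (hfin : ∀ n, IsFiniteLength A (M ⧸ (I ^ n • (⊤ : Submodule A M)))) (n : ℕ) :
    len (deg0 𝒜) (comp 𝒜 (quoGr 𝒳 D.sh) (n : ℤ))
      = len A (M ⧸ (I ^ (n + 1) • (⊤ : Submodule A M)))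
        - len A (M ⧸ (I ^ n • (⊤ : Submodule A M))) := by
  have hle : I ^ (n + 1) • (⊤ : Submodule A M) ≤ I ^ n • ⊤ :=
    Submodule.smul_mono_left (Ideal.pow_le_pow_right (Nat.le_succ n))
  let m1 : Module (deg0 𝒜) (M ⧸ (I ^ (n + 1) • (⊤ : Submodule A M))) := Module.compHom _ D.phi0
  let m0 : Module (deg0 𝒜) (M ⧸ (I ^ n • (⊤ : Submodule A M))) := Module.compHom _ D.phi0
  have l1 := D.length_compHom (M ⧸ (I ^ (n + 1) • (⊤ : Submodule A M)))
  have l0 := D.length_compHom (M ⧸ (I ^ n • (⊤ : Submodule A M)))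
  let f : comp 𝒜 (quoGr 𝒳 D.sh) (n : ℤ) →ₗ[deg0 𝒜] (M ⧸ (I ^ (n + 1) • (⊤ : Submodule A M))) :=
    { toFun := fun x => D.gmap n x
      map_add' := fun x y => map_add (D.gmap n) _ _
      map_smul' := fun r x => D.gmap_smul n r x }
  let g : (M ⧸ (I ^ (n + 1) • (⊤ : Submodule A M))) →ₗ[deg0 𝒜]
      (M ⧸ (I ^ n • (⊤ : Submodule A M))) :=
    { toFun := fun x => Submodule.factor hle x
      map_add' := fun x y => map_add _ _ _
      map_smul' := fun r x => map_smul (Submodule.factor hle) (D.phi0 r) x }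
  have hQ1 : IsFiniteLength (deg0 𝒜) (M ⧸ (I ^ (n + 1) • (⊤ : Submodule A M))) := by
    rw [← Module.length_ne_top_iff, l1, Module.length_ne_top_iff]
    exact hfin (n + 1)
  have h3 := len_exact f g ?_ ?_ ?_ hQ1
  · have e1 : len (deg0 𝒜) (M ⧸ (I ^ (n + 1) • (⊤ : Submodule A M)))
      = len A (M ⧸ (I ^ (n + 1) • (⊤ : Submodule A M))) := by rw [len, len, l1]
    have e0 : len (deg0 𝒜) (M ⧸ (I ^ n • (⊤ : Submodule A M)))
      = len A (M ⧸ (I ^ n • (⊤ : Submodule A M))) := by rw [len, len, l0]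
    rw [← e1, ← e0, h3]
    ring
  · rw [injective_iff_map_eq_zero]
    intro x hx
    exact Subtype.ext (D.gmap_injective n x x.2 hx)
  · exact Submodule.factor_surjective hle
  · intro z
    obtain ⟨z, rfl⟩ := Submodule.mkQ_surjective _ z
    constructor
    · intro h
      have hz : z ∈ I ^ n • (⊤ : Submodule A M) := (Submodule.Quotient.mk_eq_zero _).1 h
      obtain ⟨x, hx, hxz⟩ := D.exists_gmap n z hz
      exact ⟨⟨x, hx⟩, hxz⟩
    · rintro ⟨⟨x, y, hy, rfl⟩, hx⟩
      change Submodule.Quotient.mk (D.co n y) = _ at hx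
      rw [← hx]
      exact (Submodule.Quotient.mk_eq_zero _).2 (D.co_mem n y)

theorem isFiniteLength_deg0 (hI : IsFiniteLength A (A ⧸ I)) :
    IsFiniteLength (deg0 𝒜) (deg0 𝒜 ⧸ I.comap D.phi0) := by
  let m1 : Module (deg0 𝒜) (A ⧸ I) := Module.compHom _ D.phi0
  have l1 := D.length_compHom (A ⧸ I)
  have h1 : IsFiniteLength (deg0 𝒜) (A ⧸ I) := by
    rw [← Module.length_ne_top_iff, l1, Module.length_ne_top_iff]
    exact hI
  let f : deg0 𝒜 →ₗ[deg0 𝒜] (A ⧸ I) :=
    { toFun := fun r => Submodule.Quotient.mk (D.phi0 r)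
      map_add' := fun x y => by rw [map_add]; rfl
      map_smul' := fun x y => by rw [smul_eq_mul, map_mul]; rfl }
  have hf : I.comap D.phi0 ≤ LinearMap.ker f := fun r hr =>
    (Submodule.Quotient.mk_eq_zero _).2 hr
  refine h1.of_injective (f := Submodule.liftQ _ f hf) ?_
  rw [← LinearMap.ker_eq_bot, Submodule.ker_liftQ_eq_bot _ _ _ fun r hr => ?_]
  have hr' : (Submodule.Quotient.mk (D.phi0 r) : A ⧸ I) = 0 := hr
  exact (Submodule.Quotient.mk_eq_zero I).1 hr'

variable [IsNoetherianRing S] [IsNoetherianRing A] [IsLocalRing A] [Module.Finite A M]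
  [Module.Finite S X]

include D in
/-- the Serre-Grothendieck formula for the Rees module -/
theorem final (hI : I.radical = IsLocalRing.maximalIdeal A) (a : HomogeneousIdeal 𝒜)
    (ha : a.toIdeal = Ideal.span (⋃ n ∈ Set.Ioi (0 : ℤ), (𝒜 n : Set S))) (E : StarInjRes 𝒜 𝒳)
    (P : Polynomial ℚ) (hP : ∃ N : ℕ, ∀ n : ℕ, N ≤ n →
      P.eval (n : ℚ) = ((Module.length A (M ⧸ (I ^ n • (⊤ : Submodule A M)))).toNat : ℚ)) (n : ℕ) :
    (∀ i : ℕ, IsFiniteLength (deg0 𝒜) (E.Hcomp a i (n : ℤ))) ∧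
      Set.Finite {i : ℕ | E.Hcomp a i (n : ℤ) ≠ ⊥} ∧
      P.eval (n : ℚ) - ((Module.length A (M ⧸ (I ^ n • (⊤ : Submodule A M)))).toNat : ℚ) =
        finsum (fun i : ℕ => (-1 : ℚ) ^ i *
          ((Module.length (deg0 𝒜) (E.Hcomp a i (n : ℤ))).toNat : ℚ)) := by
  obtain ⟨k, hk⟩ := Ideal.exists_radical_pow_le_of_fg I (IsNoetherian.noetherian _)
  rw [hI] at hk
  have hfin : ∀ n, IsFiniteLength A (M ⧸ (I ^ n • (⊤ : Submodule A M))) := fun n => by
    refine Groth.Agent.Localalg.Matlis.isFiniteLength_of_pow_smul (k * n) fun r hr x => ?_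
    rw [pow_mul] at hr
    obtain ⟨x, rfl⟩ := Submodule.mkQ_surjective _ x
    exact (Submodule.Quotient.mk_eq_zero _).2
      (Submodule.smul_mem_smul (Ideal.pow_right_mono hk n hr) trivial)
  have hAI : IsFiniteLength A (A ⧸ I) := by
    refine Groth.Agent.Localalg.Matlis.isFiniteLength_of_pow_smul k fun r hr x => ?_
    obtain ⟨x, rfl⟩ := Submodule.mkQ_surjective _ x
    exact (Submodule.Quotient.mk_eq_zero _).2 (Ideal.mul_mem_right _ _ (hk hr))
  let X0 : GMod.{u} 𝒜 := GMod.of 𝒜 X 𝒳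
  let SM : GMod.{u} 𝒜 := sub 𝒜 𝒳 D.sh D.sh_homogeneous
  let GM : GMod.{u} 𝒜 := quo 𝒜 𝒳 D.sh D.sh_homogeneous
  let CM : GMod.{u} 𝒜 := quo 𝒜 𝒳 (LinearMap.range D.mulX) D.range_homogeneous
  have hex1 : Function.Exact D.sh.subtype D.sh.mkQ := LinearMap.exact_subtype_mkQ _
  have hex2 : Function.Exact D.mulX (LinearMap.range D.mulX).mkQ := by
    rw [LinearMap.exact_iff, Submodule.ker_mkQ]
  have hs1 : Function.Surjective D.sh.mkQ := Submodule.mkQ_surjective _
  have hs2 : Function.Surjective (LinearMap.range D.mulX).mkQ := Submodule.mkQ_surjective _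
  have hg1 : IsGrHomDeg (subGr 𝒳 D.sh) 𝒳 D.sh.subtype 0 := fun g m hm => by
    rw [add_zero]; exact hm
  have hg2 : IsGrHomDeg 𝒳 (quoGr 𝒳 D.sh) D.sh.mkQ 0 := fun g m hm => by
    rw [add_zero]; exact ⟨m, hm, rfl⟩
  have hg3 : IsGrHomDeg 𝒳 (quoGr 𝒳 (LinearMap.range D.mulX)) (LinearMap.range D.mulX).mkQ 0 :=
    fun g m hm => by rw [add_zero]; exact ⟨m, hm, rfl⟩
  obtain ⟨h1, B, hB, h2⟩ := K859.ReesLC.main a ha (I.comap D.phi0) (D.isFiniteLength_deg0 hAI)
    X0 SM GM CM ‹_› hg1 (Submodule.injective_subtype _) hg2 hs1 hex1 D.mulX_deg D.mulX_injective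
    hg3 hs2 hex2 (D.gam_quo _ ha) (fun n hn x hx => D.quo_eq_zero n hn x hx)
    (fun r hr x => D.killed r hr x)
    (fun n => len A (M ⧸ (I ^ n • (⊤ : Submodule A M)))) (fun n => D.len_quo hfin n) P hP E
  have hz : ∀ i, B < i → E.Hcomp a i (n : ℤ) = ⊥ := fun i hi => by
    have hsub : Subsingleton (E.H a i) := hB X0 E i hi
    rw [eq_bot_iff]
    intro x _
    exact Subsingleton.elim _ _
  refine ⟨fun i => h1 i n, (Set.finite_le_nat B).subset fun i hi => ?_, ?_⟩
  · by_contra h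
    exact hi (hz i (not_le.1 h))
  · refine (h2 n).trans ?_
    rw [chi, finsum_eq_sum_of_support_subset (s := Finset.range (B + 1))]
    · rfl
    · intro i hi
      by_contra h
      apply hi
      have h3 : E.Hcomp a i (n : ℤ) = ⊥ := hz i (by
        simp only [Finset.coe_range, Set.mem_Iio, not_lt] at h
        omega)
      have : Subsingleton (E.Hcomp a i (n : ℤ)) := by rw [h3]; infer_instance
      have h4 : Module.length (deg0 𝒜) (E.Hcomp a i (n : ℤ)) = 0 := Module.length_eq_zero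
      simp only [h4]
      simp

end Data

end K859.ReesMod
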